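import Mathlib
import Cfsg.Agent.H634.OneP.Main
import Cfsg.Agent.H61.K6.Base

/-!
S4876, helper404: criterion E. `|X|_p = p ^ 2`, `x, y` commuting elements of order `p`, `y ∉ ⟨x⟩`, `h` centralizes `x`
and `h y h⁻¹ = y ^ r`.

* `wtGe_inertial`: if `r` has order at least `n` modulo `p` then the weight of `x` is at least `n`;
* `KRow.of_inertial`: if `p = 5` and `n ≥ 4`, or `p = 7` and `n ≥ 3`: `KRow p X`.
-/

set_option autoImplicit false
set_option linter.unusedSectionVars false

namespace Cfsg.Agent.H404.K6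

open Cfsg Subgroup Cfsg.Agent.H61.K6

universe u v

/-- The local data. -/
structure Inert (p : ℕ) {X : Type*} [Group X] (x y h : X) (r n : ℕ) : Prop where
  card : ¬ p ^ 3 ∣ Nat.card X
  ox : orderOf x = p
  oy : orderOf y = p
  comm : Commute x y
  nmem : y ∉ Subgroup.zpowers x
  hx : Commute h x
  hy : h * y * h⁻¹ = y ^ r
  ord : ∀ i, 0 < i → i < n → ¬ r ^ i ≡ 1 [MOD p]

theorem Inert.map {p : ℕ} {X Y : Type*} [Group X] [Group Y] {x y h : X} {r n : ℕ} (H : Inert p x y h r n)
    (f : X →* Y) (hf : Function.Injective f) (hc : ¬ p ^ 3 ∣ Nat.card Y) : Inert p (f x) (f y) (f h) r n where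
  card := hc
  ox := by rw [orderOf_injective f hf, H.ox]
  oy := by rw [orderOf_injective f hf, H.oy]
  comm := H.comm.map f
  nmem := by
    rintro ⟨k, hk⟩
    apply H.nmem
    refine ⟨k, hf ?_⟩
    rw [← hk]
    exact map_zpow f x k
  hx := H.hx.map f
  hy := by rw [← map_mul, ← map_inv, ← map_mul, H.hy, map_pow]
  ord := H.ord

section G

variable {G : Type u} [Group G] [Finite G] {p : ℕ} [hp : Fact p.Prime]

/-- The Sylow subgroup `⟨x, y⟩`. -/
theorem Inert.exists_sylow {x y h : G} {r n : ℕ} (H : Inert p x y h r n) :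
    ∃ P : Sylow p G, Nat.card P = p ^ 2 ∧ (∀ z ∈ (P : Subgroup G), z ^ p = 1) ∧ x ∈ (P : Subgroup G) ∧
      y ∈ (P : Subgroup G) ∧ h ∈ Subgroup.normalizer ((P : Subgroup G) : Set G) := by
  classical
  -- the group of the `x ^ a y ^ b`
  have hxy := H.comm
  set Q : Subgroup G :=
    { carrier := {z | ∃ a b : ℕ, z = x ^ a * y ^ b}
      one_mem' := ⟨0, 0, by simp⟩
      mul_mem' := by
        rintro _ _ ⟨a, b, rfl⟩ ⟨c, d, rfl⟩
        refine ⟨a + c, b + d, ?_⟩
        rw [pow_add, pow_add]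
        have h1 : Commute (y ^ b) (x ^ c) := (hxy.symm.pow_pow b c)
        calc x ^ a * y ^ b * (x ^ c * y ^ d) = x ^ a * (y ^ b * x ^ c) * y ^ d := by group
          _ = x ^ a * (x ^ c * y ^ b) * y ^ d := by rw [h1.eq]
          _ = x ^ a * x ^ c * (y ^ b * y ^ d) := by group
      inv_mem' := by
        rintro _ ⟨a, b, rfl⟩
        refine ⟨(p - 1) * a, (p - 1) * b, ?_⟩
        have h1 : x ^ ((p - 1) * a) = (x ^ a)⁻¹ := by
          rw [eq_inv_iff_mul_eq_one, ← pow_add]
          have : (p - 1) * a + a = p * a := by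
            have := hp.out.pos
            have e : p - 1 + 1 = p := by omega
            calc (p - 1) * a + a = (p - 1 + 1) * a := by ring
              _ = p * a := by rw [e]
          rw [this, pow_mul, ← H.ox, pow_orderOf_eq_one, one_pow]
        have h2 : y ^ ((p - 1) * b) = (y ^ b)⁻¹ := by
          rw [eq_inv_iff_mul_eq_one, ← pow_add]
          have : (p - 1) * b + b = p * b := by
            have := hp.out.pos
            have e : p - 1 + 1 = p := by omega
            calc (p - 1) * b + b = (p - 1 + 1) * b := by ring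
              _ = p * b := by rw [e]
          rw [this, pow_mul, ← H.oy, pow_orderOf_eq_one, one_pow]
        rw [h1, h2, mul_inv_rev]
        exact ((hxy.pow_pow a b).inv_inv).eq.symm } with hQ
  have hxQ : x ∈ Q := ⟨1, 0, by simp⟩
  have hyQ : y ∈ Q := ⟨0, 1, by simp⟩
  have hel : ∀ z ∈ Q, z ^ p = 1 := by
    rintro _ ⟨a, b, rfl⟩
    rw [(hxy.pow_pow a b).mul_pow, ← pow_mul, ← pow_mul, mul_comm a, mul_comm b, pow_mul, pow_mul, ← H.ox,
      pow_orderOf_eq_one, H.ox, ← H.oy, pow_orderOf_eq_one, one_pow, one_pow, one_mul]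
  have hQp : IsPGroup p Q := fun z => ⟨1, Subtype.ext (by
    rw [pow_one]
    exact hel z z.2)⟩
  obtain ⟨P, hP⟩ := hQp.exists_le_sylow
  obtain ⟨m, hm⟩ := P.2.exists_card_eq
  have hm2 : m ≤ 2 := by
    by_contra hcon
    push Not at hcon
    apply H.card
    have h1 : p ^ 3 ∣ Nat.card P := by rw [hm]; exact pow_dvd_pow p hcon
    exact h1.trans (Subgroup.card_subgroup_dvd_card _)
  -- `|Q| ≥ p ^ 2`
  have hQc : p ^ 2 ≤ Nat.card Q := by
    have hle : Subgroup.zpowers x ≤ Q := by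
      rw [Subgroup.zpowers_le]
      exact hxQ
    have hdvd : Nat.card (Subgroup.zpowers x) ∣ Nat.card Q := Subgroup.card_dvd_of_le hle
    obtain ⟨k, hk⟩ := hQp.exists_card_eq
    rw [Nat.card_zpowers, H.ox, hk] at hdvd
    rw [hk]
    apply Nat.pow_le_pow_right hp.out.pos
    by_contra hcon
    push Not at hcon
    have hk1 : k = 1 := by
      interval_cases k
      · rw [pow_zero] at hdvd
        exact absurd (Nat.dvd_one.1 hdvd) hp.out.ne_one
      · rfl
    apply H.nmem
    have h1 : Subgroup.zpowers x = Q := by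
      apply Subgroup.eq_of_le_of_card_ge hle
      rw [Nat.card_zpowers, H.ox, hk, hk1, pow_one]
    rw [h1]
    exact hyQ
  have hPc : Nat.card P ≤ p ^ 2 := by
    rw [hm]
    exact Nat.pow_le_pow_right hp.out.pos hm2
  have hPQ : Q = P := Subgroup.eq_of_le_of_card_ge hP (hPc.trans hQc)
  refine ⟨P, le_antisymm hPc ?_, ?_, ?_, ?_, ?_⟩
  · have := hQc
    rw [hPQ] at this
    exact this
  · intro z hz
    exact hel z (by rw [hPQ]; exact hz)
  · rw [← hPQ]; exact hxQ
  · rw [← hPQ]; exact hyQ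
  · rw [← hPQ]
    -- `h` normalizes `Q`
    have h1 : ∀ z ∈ Q, h * z * h⁻¹ ∈ Q := by
      rintro _ ⟨a, b, rfl⟩
      refine ⟨a, r * b, ?_⟩
      have e1 : h * (x ^ a * y ^ b) * h⁻¹ = (h * x * h⁻¹) ^ a * (h * y * h⁻¹) ^ b := by
        rw [conj_pow, conj_pow]
        group
      rw [e1, H.hx.eq, mul_inv_cancel_right, H.hy, pow_mul]
    have h2 : Q.map (MulAut.conj h).toMonoidHom = Q := by
      apply Subgroup.eq_of_le_of_card_ge
      · rintro _ ⟨z, hz, rfl⟩
        exact h1 z hz
      · exact (Nat.card_congr (Q.equivMapOfInjective _ (MulAut.conj h).injective).toEquiv).le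
    rw [Subgroup.mem_normalizer_iff]
    intro z
    constructor
    · exact h1 z
    · intro hz
      have h3 : h * z * h⁻¹ ∈ Q.map (MulAut.conj h).toMonoidHom := by rw [h2]; exact hz
      obtain ⟨w, hw, hwz⟩ := h3
      have h4 : h * w * h⁻¹ = h * z * h⁻¹ := hwz
      have h5 : w = z := mul_left_cancel (mul_right_cancel h4)
      rw [← h5]
      exact hw

/-- the inertial index -/
theorem Inert.le_relIndex {x y h : G} {r n : ℕ} (H : Inert p x y h r n) (P : Sylow p G)
    (hyP : y ∈ (P : Subgroup G)) (hhP : h ∈ Subgroup.normalizer ((P : Subgroup G) : Set G)) :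
    n ≤ (Subgroup.centralizer ((P : Subgroup G) : Set G)).relIndex
      (Subgroup.normalizer ((P : Subgroup G) : Set G) ⊓ Subgroup.centralizer ({x} : Set G)) := by
  classical
  set N := Subgroup.normalizer ((P : Subgroup G) : Set G) ⊓ Subgroup.centralizer ({x} : Set G) with hN
  set C := Subgroup.centralizer ((P : Subgroup G) : Set G) with hC
  have hhN : h ∈ N := ⟨hhP, Subgroup.mem_centralizer_singleton_iff.2 H.hx.eq⟩
  let f : Fin n → N ⧸ C.subgroupOf N := fun i => QuotientGroup.mk (⟨h, hhN⟩ ^ (i : ℕ))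
  have hpow : ∀ i : ℕ, h ^ i * y * (h ^ i)⁻¹ = y ^ (r ^ i) := by
    intro i
    induction i with
    | zero => simp
    | succ i ih =>
      have e1 : h ^ (i + 1) * y * (h ^ (i + 1))⁻¹ = h * (h ^ i * y * (h ^ i)⁻¹) * h⁻¹ := by
        rw [pow_succ']
        group
      rw [e1, ih, ← conj_pow, H.hy, ← pow_mul, pow_succ']
  have key : ∀ i : ℕ, 0 < i → i < n → h ^ i ∉ C := by
    intro i h0 hi hmem
    apply H.ord i h0 hi
    have h1 := Subgroup.mem_centralizer_iff.1 hmem y hyP
    have h2 : y ^ (r ^ i) = y ^ 1 := by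
      rw [← hpow i, ← h1, pow_one, mul_inv_cancel_right]
    have h3 := (pow_eq_pow_iff_modEq (x := y)).1 h2
    rwa [H.oy] at h3
  have hinj : Function.Injective f := by
    have hlt : ∀ i j : Fin n, i < j → f i ≠ f j := by
      intro i j hij heq
      have h1 := QuotientGroup.eq.1 heq
      rw [Subgroup.mem_subgroupOf] at h1
      have h2 : (((⟨h, hhN⟩ : N) ^ (i : ℕ))⁻¹ * (⟨h, hhN⟩ : N) ^ (j : ℕ) : N) = (⟨h, hhN⟩ : N) ^ ((j : ℕ) - i) := by
        rw [inv_mul_eq_iff_eq_mul, ← pow_add]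
        congr 1
        have := Fin.lt_def.1 hij
        omega
      rw [h2] at h1
      have hij' := Fin.lt_def.1 hij
      exact key ((j : ℕ) - i) (by omega) (by have := j.2; omega) h1
    intro i j hij
    rcases lt_trichotomy i j with h1 | h1 | h1
    · exact absurd hij (hlt i j h1)
    · exact h1
    · exact absurd hij.symm (hlt j i h1)
  have h1 := Nat.card_le_card_of_injective f hinj
  rwa [Nat.card_fin] at h1

variable {M : Ideal AlgInt}

/-- **Criterion E** in `G`. -/
theorem Inert.seven_le {x y h : G} {r n : ℕ} (H : Inert p x y h r n) (hM : IsPModular p M)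
    (hn : (p = 5 ∧ 4 ≤ n) ∨ (p = 7 ∧ 3 ≤ n)) : 7 ≤ Nat.card (principalBlock M G) := by
  obtain ⟨P, hP, hel, hxP, hyP, hhP⟩ := H.exists_sylow
  have hx1 : x ≠ 1 := by
    intro h1
    have := H.ox
    rw [h1, orderOf_one] at this
    exact hp.out.ne_one this.symm
  have h1 := H.le_relIndex P hyP hhP
  have hp2 : p ≠ 2 := by rcases hn with ⟨h, -⟩ | ⟨h, -⟩ <;> omega
  obtain ⟨h2, h3⟩ := H634.OneP.main hM hp2 P hP hel hxP hx1 _ rfl (by rcases hn with ⟨h, h'⟩ | ⟨h, h'⟩ <;> omega)
  rcases hn with ⟨h, h'⟩ | ⟨h, h'⟩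
  · omega
  · set e := (Subgroup.centralizer ((P : Subgroup G) : Set G)).relIndex
      (Subgroup.normalizer ((P : Subgroup G) : Set G) ⊓ Subgroup.centralizer ({x} : Set G))
    by_cases he : e = 3
    · have h4 := h3 (by rw [h]) (by rw [he]; decide)
      omega
    · omega

/-- the weight -/
theorem Inert.le_rank {x y h : G} {r n : ℕ} (H : Inert p x y h r n) (hM : IsPModular p M) (hp2 : p ≠ 2) :
    n ≤ blockRank p (principalBlock M (Subgroup.centralizer ({x} : Set G))) := by
  obtain ⟨P, hP, hel, hxP, hyP, hhP⟩ := H.exists_sylow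
  have hx1 : x ≠ 1 := by
    intro h1
    have := H.ox
    rw [h1, orderOf_one] at this
    exact hp.out.ne_one this.symm
  rw [H963.OneP.RankEq.rank_eq hM hp2 P hP hel hxP hx1]
  exact H.le_relIndex P hyP hhP

end G

theorem not_dvd_of_sit {p : ℕ} {M : Ideal AlgInt} {G : Type u} [Group G] [Finite G] {K : Subgroup G}
    {X : Type v} [Group X] (hS : Sit p M G K X) (h : ¬ p ^ 3 ∣ Nat.card X) : ¬ p ^ 3 ∣ Nat.card G := by
  intro h1
  obtain ⟨f⟩ := hS.iso
  rw [← K.card_mul_index, ← Nat.card_congr f.toEquiv] at h1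
  exact h ((Nat.Coprime.pow_left 3 ((Nat.Prime.coprime_iff_not_dvd hS.prime).2 hS.ndvd)).dvd_of_dvd_mul_right h1)

theorem Inert.map_sit {p : ℕ} {M : Ideal AlgInt} {G : Type u} [Group G] [Finite G] {K : Subgroup G}
    {X : Type v} [Group X] {x y h : X} {r n : ℕ} (H : Inert p x y h r n) (hS : Sit p M G K X) (f : X ≃* K) :
    Inert p ((f x : K) : G) ((f y : K) : G) ((f h : K) : G) r n :=
  H.map (K.subtype.comp f.toMonoidHom) (K.subtype_injective.comp f.injective) (not_dvd_of_sit hS H.card)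

/-- **Criterion E**, weights. -/
theorem wtGe_inertial {p : ℕ} {X : Type v} [Group X] {x y h : X} {r n : ℕ} (hp2 : p ≠ 2)
    (H : Inert p x y h r n) : WtGe.{u, v} p x n := by
  intro M G _ _ K f hS
  have : Fact p.Prime := ⟨hS.prime⟩
  exact (H.map_sit hS f).le_rank hS.modular hp2

/-- **Criterion E.** -/
theorem KRow.of_inertial {p : ℕ} {X : Type v} [Group X] {x y h : X} {r n : ℕ} (H : Inert p x y h r n)
    (hn : (p = 5 ∧ 4 ≤ n) ∨ (p = 7 ∧ 3 ≤ n)) : KRow.{u, v} p X := by
  intro M G _ _ K hS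
  have : Fact p.Prime := ⟨hS.prime⟩
  obtain ⟨f⟩ := hS.iso
  exact (H.map_sit hS f).seven_le hS.modular hn

end Cfsg.Agent.H404.K6
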