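import Mathlib
import Cfsg.Agent.H674.KM.Count
import Cfsg.Agent.S0162

/-!
S4876, helper404: groups `G` with an abelian normal subgroup `N = C_G(N)` of odd order `≥ 25` and of index prime to
`|N|` do not have exactly six conjugacy classes.
-/

set_option autoImplicit false

namespace Cfsg.Agent.H404.K6

open Cfsg.Agent.H674.KM Subgroup

theorem aux4_sorted {n a b c : ℕ} (h : n = 1 + a + b + c) (ha : a ∣ n) (hb : b ∣ n) (hc : c ∣ n) (ha0 : 0 < a)
    (hab : a ≤ b) (hbc : b ≤ c) : n ≤ 42 := by
  by_contra hcon
  push Not at hcon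
  obtain ⟨k, hk⟩ := hc
  obtain ⟨j, hj⟩ := hb
  have hk3 : k ≤ 3 := by
    by_contra h4
    push Not at h4
    have h5 : c * 4 ≤ c * k := Nat.mul_le_mul_left c h4
    omega
  interval_cases k
  · omega
  · omega
  · have hj4 : j ≤ 4 := by
      by_contra h4
      push Not at h4
      have h5 : b * 5 ≤ b * j := Nat.mul_le_mul_left b h4
      omega
    interval_cases j
    · omega
    · omega
    · omega
    · have h6 : n = 6 * a + 6 := by omega
      have h7 : a ∣ 6 := by
        rw [h6] at ha
        exact (Nat.dvd_add_right (dvd_mul_left a 6)).1 ha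
      have h8 := Nat.le_of_dvd (by norm_num) h7
      omega
    · have h6 : n = 4 * a + 4 := by omega
      have h7 : a ∣ 4 := by
        rw [h6] at ha
        exact (Nat.dvd_add_right (dvd_mul_left a 4)).1 ha
      have h8 := Nat.le_of_dvd (by norm_num) h7
      omega
  · have h1 : b = c := by omega
    have h6 : n = 3 * a + 3 := by omega
    have h7 : a ∣ 3 := by
      rw [h6] at ha
      exact (Nat.dvd_add_right (dvd_mul_left a 3)).1 ha
    have h8 := Nat.le_of_dvd (by norm_num) h7
    omega

theorem aux4 {n a b c : ℕ} (h : n = 1 + a + b + c) (ha : a ∣ n) (hb : b ∣ n) (hc : c ∣ n) (ha0 : 0 < a)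
    (hb0 : 0 < b) (hc0 : 0 < c) : n ≤ 42 := by
  rcases le_total a b with h1 | h1 <;> rcases le_total b c with h2 | h2 <;> rcases le_total a c with h3 | h3
  · exact aux4_sorted h ha hb hc ha0 h1 h2
  · exact aux4_sorted h ha hb hc ha0 h1 h2
  · exact aux4_sorted (by omega) ha hc hb ha0 h3 h2
  · exact aux4_sorted (by omega) hc ha hb hc0 h3 h1
  · exact aux4_sorted (by omega) hb ha hc hb0 h1 h3
  · exact aux4_sorted (by omega) hb hc ha hb0 h2 h3
  · exact aux4_sorted (by omega) hc hb ha hc0 h2 h1
  · exact aux4_sorted (by omega) hc hb ha hc0 h2 h1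

section

variable {G : Type*} [Group G] [Finite G]

/-- a group of order `> 42` has at least five classes -/
theorem five_le_classes (h : 42 < Nat.card G) : 5 ≤ Nat.card (ConjClasses G) := by
  classical
  have h4 := four_le_classes (G := G) (by omega)
  by_contra hcon
  have h0 : Finite (ConjClasses G) := finite_classes
  have : Fintype (ConjClasses G) := Fintype.ofFinite _
  have hsum := Group.sum_card_conj_classes_eq_card (G := G)
  rw [finsum_eq_sum_of_fintype] at hsum
  set c1 : ConjClasses G := ConjClasses.mk 1 with hc1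
  have h1 : c1.carrier.ncard = 1 := by
    rw [Set.ncard_eq_one]
    refine ⟨1, ?_⟩
    ext x
    rw [hc1, ConjClasses.mem_carrier_iff_mk_eq, ConjClasses.mk_eq_mk_iff_isConj,
      Set.mem_singleton_iff, isConj_one_left]
  rw [← Finset.add_sum_erase _ _ (Finset.mem_univ c1), h1] at hsum
  set S := Finset.univ.erase c1 with hS
  have hScard : S.card = 3 := by
    rw [hS, Finset.card_erase_of_mem (Finset.mem_univ _), Finset.card_univ,
      ← Nat.card_eq_fintype_card]
    omega
  obtain ⟨x, y, z, hxy, hxz, hyz, hx⟩ := Finset.card_eq_three.1 hScard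
  rw [hx, Finset.sum_insert (by simp [hxy, hxz]), Finset.sum_pair hyz] at hsum
  have h5 := aux4 (n := Nat.card G) (by rw [← hsum]; ring) (ncard_carrier_dvd x) (ncard_carrier_dvd y)
    (ncard_carrier_dvd z) (ncard_carrier_pos x) (ncard_carrier_pos y) (ncard_carrier_pos z)
  omega

/-- an extra class outside `N` -/
theorem ncl_add_add_le (N : Subgroup G) [N.Normal] {x u : G} (hx : x ∈ N) (hu : u ∉ N)
    (hxu : ¬ IsConj u (x * u)) :
    ncl N + Nat.card (ConjClasses (G ⧸ N)) ≤ Nat.card (ConjClasses G) := by
  classical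
  have h0 : Finite (ConjClasses G) := finite_classes
  have h1 : Finite (ConjClasses (G ⧸ N)) := finite_classes
  set f : G →* G ⧸ N := QuotientGroup.mk' N with hfdef
  have hf : Function.Surjective f := QuotientGroup.mk'_surjective N
  have hker : ∀ y, f y = 1 ↔ y ∈ N := fun y => by
    rw [hfdef, QuotientGroup.mk'_apply, QuotientGroup.eq_one_iff]
  have hsurj : ∀ c : ConjClasses (G ⧸ N), ∃ d : ConjClasses G, ConjClasses.map f d = c := by
    intro c
    obtain ⟨q, rfl⟩ := ConjClasses.mk_surjective c
    obtain ⟨g, rfl⟩ := hf q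
    exact ⟨ConjClasses.mk g, rfl⟩
  choose s hs using hsurj
  let A : Set (ConjClasses G) := {c | ∃ x ∈ N, ConjClasses.mk x = c}
  let B : Set (ConjClasses G) := s '' {c | c ≠ ConjClasses.mk 1}
  have hsinj : Function.Injective s := by
    intro a b hab
    rw [← hs a, ← hs b, hab]
  obtain ⟨e, he1, he2⟩ : ∃ e : ConjClasses G, ConjClasses.map f e = ConjClasses.mk (f u) ∧
      e ≠ s (ConjClasses.mk (f u)) := by
    by_cases h : ConjClasses.mk u = s (ConjClasses.mk (f u))
    · refine ⟨ConjClasses.mk (x * u), ?_, fun h' => hxu ?_⟩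
      · show ConjClasses.mk (f (x * u)) = _
        rw [map_mul, (hker x).2 hx, one_mul]
      · rw [← h] at h'
        exact (ConjClasses.mk_eq_mk_iff_isConj.1 h').symm
    · exact ⟨ConjClasses.mk u, rfl, h⟩
  have hfu : ConjClasses.mk (f u) ≠ ConjClasses.mk (1 : G ⧸ N) := by
    intro h
    rw [ConjClasses.mk_eq_mk_iff_isConj, isConj_one_left] at h
    exact hu ((hker u).1 h)
  have hdisj : Disjoint A (insert e B) := by
    rw [Set.disjoint_left]
    rintro c ⟨y, hy, hyc⟩ hcB
    have hc1 : ConjClasses.map f c = ConjClasses.mk 1 := by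
      rw [← hyc]
      show ConjClasses.mk (f y) = _
      rw [(hker y).2 hy]
    rcases Set.mem_insert_iff.1 hcB with rfl | ⟨d, hd, rfl⟩
    · exact hfu (he1.symm.trans hc1)
    · exact hd ((hs d).symm.trans hc1)
  have heB : e ∉ B := by
    rintro ⟨d, -, hd⟩
    have h2 : d = ConjClasses.mk (f u) := by rw [← hs d, hd, he1]
    rw [h2] at hd
    exact he2 hd.symm
  have hA : A.ncard = ncl N := by
    rw [← Nat.card_coe_set_eq]
    rfl
  have hB : B.ncard + 1 = Nat.card (ConjClasses (G ⧸ N)) := by
    rw [Set.ncard_image_of_injective _ hsinj]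
    have h2 : {c : ConjClasses (G ⧸ N) | c ≠ ConjClasses.mk 1} = {ConjClasses.mk 1}ᶜ := rfl
    rw [h2, Set.ncard_compl, Set.ncard_singleton]
    have h3 : 0 < Nat.card (ConjClasses (G ⧸ N)) := classes_pos
    omega
  have hu' : (A ∪ insert e B).ncard ≤ Nat.card (ConjClasses G) := by
    rw [← Set.ncard_univ]
    exact Set.ncard_le_ncard (Set.subset_univ _) (Set.toFinite _)
  rw [Set.ncard_union_eq hdisj (Set.toFinite _) (Set.toFinite _),
    Set.ncard_insert_of_notMem heB (Set.toFinite _)] at hu'
  omega

/-- the class equation of a group with a central element `z ≠ 1`, `z² = 1` -/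
theorem four_mul_card_le {z : G} (hz1 : z ≠ 1) (hz2 : z * z = 1) (hz : ∀ w, z * w = w * z) :
    4 * Nat.card G ≤ 8 + (Nat.card (ConjClasses G) - 2) * Nat.card G := by
  classical
  have h0 : Finite (ConjClasses G) := finite_classes
  have : Fintype (ConjClasses G) := Fintype.ofFinite _
  have hsum := Group.sum_card_conj_classes_eq_card (G := G)
  rw [finsum_eq_sum_of_fintype] at hsum
  have hcen : ∀ y : G, (∀ w, y * w = w * y) → (ConjClasses.mk y).carrier.ncard = 1 := by
    intro y hy
    rw [Set.ncard_eq_one]
    refine ⟨y, ?_⟩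
    ext x
    rw [ConjClasses.mem_carrier_iff_mk_eq, ConjClasses.mk_eq_mk_iff_isConj, Set.mem_singleton_iff]
    constructor
    · intro h
      obtain ⟨c, hc⟩ := isConj_iff.1 h.symm
      rw [← hc, ← hy c, mul_inv_cancel_right]
    · rintro rfl
      exact IsConj.refl _
  set c1 : ConjClasses G := ConjClasses.mk 1 with hc1
  set c2 : ConjClasses G := ConjClasses.mk z with hc2
  have h12 : c2 ≠ c1 := by
    intro h
    rw [hc1, hc2, ConjClasses.mk_eq_mk_iff_isConj, isConj_one_left] at h
    exact hz1 h
  have h1 : c1.carrier.ncard = 1 := hcen 1 (fun w => by rw [one_mul, mul_one])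
  have h2 : c2.carrier.ncard = 1 := hcen z hz
  have hmem : c2 ∈ Finset.univ.erase c1 := Finset.mem_erase.2 ⟨h12, Finset.mem_univ _⟩
  rw [← Finset.add_sum_erase _ _ (Finset.mem_univ c1), ← Finset.add_sum_erase _ _ hmem, h1, h2] at hsum
  set S := (Finset.univ.erase c1).erase c2 with hS
  have hScard : S.card = Nat.card (ConjClasses G) - 2 := by
    rw [hS, Finset.card_erase_of_mem hmem, Finset.card_erase_of_mem (Finset.mem_univ _), Finset.card_univ,
      ← Nat.card_eq_fintype_card]
    omega
  have h3 : ∀ c ∈ S, 4 * c.carrier.ncard ≤ Nat.card G := by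
    intro c hc
    obtain ⟨w, rfl⟩ := ConjClasses.mk_surjective c
    have hw2 : w ≠ z := by
      rintro rfl
      exact (Finset.mem_erase.1 hc).1 rfl
    have hw1 : w ≠ 1 := by
      rintro rfl
      exact (Finset.mem_erase.1 (Finset.mem_erase.1 hc).2).1 rfl
    have h5 : (ConjClasses.mk w).carrier.ncard = (centralizer ({w} : Set G)).index := by
      rw [← ConjAct.orbit_eq_carrier_conjClasses, ← MulAction.index_stabilizer, ConjAct.stabilizer_eq_centralizer]
      exact Subgroup.index_map_equiv (centralizer ({w} : Set G)) ConjAct.toConjAct |>.symm ▸ rfl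
    have h6 : 4 ≤ Nat.card (centralizer ({w} : Set G)) := by
      have e1 : (1 : G) ∈ centralizer ({w} : Set G) := one_mem _
      have e2 : z ∈ centralizer ({w} : Set G) := mem_centralizer_singleton_iff.2 (hz w)
      have e3 : w ∈ centralizer ({w} : Set G) := mem_centralizer_singleton_iff.2 rfl
      have e4 := mul_mem e2 e3
      have h7 : ({1, z, w, z * w} : Set G).ncard = 4 := by
        have d1 : (1 : G) ∉ ({z, w, z * w} : Set G) := by
          simp only [Set.mem_insert_iff, Set.mem_singleton_iff, not_or]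
          refine ⟨hz1.symm, hw1.symm, fun h => hw2 ?_⟩
          have : z * (z * w) = z := by rw [← h, mul_one]
          rwa [← mul_assoc, hz2, one_mul] at this
        have d2 : z ∉ ({w, z * w} : Set G) := by
          simp only [Set.mem_insert_iff, Set.mem_singleton_iff, not_or]
          refine ⟨hw2.symm, fun h => hw1 ?_⟩
          exact (mul_eq_left.1 h.symm)
        have d3 : w ∉ ({z * w} : Set G) := by
          simp only [Set.mem_singleton_iff]
          intro h
          exact hz1 (mul_eq_right.1 h.symm)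
        rw [Set.ncard_insert_of_notMem d1 (Set.toFinite _), Set.ncard_insert_of_notMem d2 (Set.toFinite _),
          Set.ncard_insert_of_notMem d3 (Set.toFinite _), Set.ncard_singleton]
      rw [← SetLike.coe_sort_coe, Nat.card_coe_set_eq, ← h7]
      refine Set.ncard_le_ncard ?_ (Set.toFinite _)
      intro y hy
      simp only [Set.mem_insert_iff, Set.mem_singleton_iff] at hy
      rcases hy with rfl | rfl | rfl | rfl
      · exact e1
      · exact e2
      · exact e3
      · exact e4
    rw [h5, ← (centralizer ({w} : Set G)).card_mul_index]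
    exact Nat.mul_le_mul_right _ h6
  have h4 : 4 * ∑ c ∈ S, c.carrier.ncard ≤ S.card * Nat.card G := by
    rw [Finset.mul_sum]
    calc _ ≤ ∑ c ∈ S, Nat.card G := Finset.sum_le_sum h3
      _ = _ := by rw [Finset.sum_const, smul_eq_mul]
  rw [hScard] at h4
  omega

end

/-- **the affine case** -/
theorem card_classes_ne_six {G : Type*} [Group G] [Finite G] (N : Subgroup G) [N.Normal]
    (hNc : ∀ x ∈ N, ∀ y ∈ N, x * y = y * x) (hC : centralizer (N : Set G) = N) (hodd : Odd (Nat.card N))
    (hcop : (Nat.card N).Coprime N.index) (h25 : 25 ≤ Nat.card N) : Nat.card (ConjClasses G) ≠ 6 := by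
  classical
  intro hk
  have hcG : Nat.card G = Nat.card N * N.index := N.card_mul_index.symm
  have hQ : Nat.card (G ⧸ N) = N.index := rfl
  have hcent : ∀ u : G, (∀ x ∈ N, u * x = x * u) → u ∈ N := fun u hu => by
    rw [← hC]
    exact mem_centralizer_iff.2 fun x hx => (hu x hx).symm
  -- the index is even
  have heven : Even N.index := by
    by_contra hne
    rw [Nat.not_even_iff_odd] at hne
    have h1 := S0162.result (G := G) (by rw [hcG]; exact hodd.mul hne)
    rw [hk, hcG] at h1
    have h2 : Odd (Nat.card N * N.index) := hodd.mul hne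
    have h3 : (Nat.card N * N.index) % 16 = 6 := h1
    rw [Nat.odd_iff] at h2
    omega
  have hnt : Nontrivial (G ⧸ N) := by
    rw [← Finite.one_lt_card_iff_nontrivial, hQ]
    have : N.index ≠ 0 := N.index_ne_zero_of_finite
    rcases heven with ⟨c, hc⟩
    omega
  have hκ2 : 2 ≤ Nat.card (ConjClasses (G ⧸ N)) :=
    (two_le_ncl (⊤ : Subgroup (G ⧸ N)) top_ne_bot).trans (ncl_le _)
  have hN1 : N ≠ ⊥ := by
    rintro rfl
    rw [card_bot] at h25
    omega
  have ht2 : 2 ≤ ncl N := two_le_ncl N hN1
  have hF2 : Nat.card N ≤ ncl N * N.index := card_le_ncl_mul N N fun a ha b hb => hNc a ha b hb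
  have hF1 : ncl N + Nat.card (ConjClasses (G ⧸ N)) ≤ 7 := by
    have := ncl_add_le (QuotientGroup.mk' N) (QuotientGroup.mk'_surjective N) N (by rw [QuotientGroup.ker_mk'])
    omega
  by_cases hreg : ∃ x ∈ N, x ≠ 1 ∧ ∃ u : G, u ∉ N ∧ u * x = x * u
  · -- not semiregular
    obtain ⟨x, hx, hx1, u, hu, hux⟩ := hreg
    have hpow : ∀ y ∈ N, y ^ Nat.card N = 1 := by
      intro y hy
      have h1 : (⟨y, hy⟩ : N) ^ Nat.card N = 1 := pow_card_eq_one'
      exact congrArg Subtype.val h1
    set v := u ^ Nat.card N with hv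
    have hvN : v ∉ N := by
      intro h
      apply hu
      have h1 : (u : G ⧸ N) ^ Nat.card N = 1 := by
        rw [← QuotientGroup.mk_pow, QuotientGroup.eq_one_iff]
        exact h
      have h2 : (u : G ⧸ N) ^ N.index = 1 := by
        rw [← hQ]
        exact pow_card_eq_one'
      have h3 := orderOf_dvd_of_pow_eq_one h1
      have h4 := orderOf_dvd_of_pow_eq_one h2
      have h5 := Nat.dvd_gcd h3 h4
      rw [hcop, Nat.dvd_one, orderOf_eq_one_iff, QuotientGroup.eq_one_iff] at h5
      exact h5
    have hvI : v ^ N.index = 1 := by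
      rw [hv, ← pow_mul, mul_comm, pow_mul]
      apply hpow
      rw [← QuotientGroup.eq_one_iff, QuotientGroup.mk_pow, ← hQ]
      exact pow_card_eq_one'
    have hvx : Commute x v := by
      have h1 : Commute u x := hux
      exact (h1.pow_left _).symm
    have hnc : ¬ IsConj v (x * v) := by
      intro h
      obtain ⟨c, hc⟩ := isConj_iff.1 h
      have h1 : (x * v) ^ N.index = 1 := by
        rw [← hc, conj_pow, hvI, mul_one, mul_inv_cancel]
      rw [hvx.mul_pow, hvI, mul_one] at h1
      have h2 := orderOf_dvd_of_pow_eq_one h1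
      have h3 := orderOf_dvd_of_pow_eq_one (hpow x hx)
      have h4 := Nat.dvd_gcd h3 h2
      rw [hcop, Nat.dvd_one, orderOf_eq_one_iff] at h4
      exact hx1 h4
    have hF1' := ncl_add_add_le N hx hvN hnc
    rw [hk] at hF1'
    by_cases h42 : 42 < N.index
    · have h5 := five_le_classes (G := G ⧸ N) (by rw [hQ]; exact h42)
      omega
    by_cases hκ3 : Nat.card (ConjClasses (G ⧸ N)) ≤ 3
    · have h6 : N.index ≤ 6 := by
        by_contra hcon
        have := four_le_classes (G := G ⧸ N) (by rw [hQ]; omega)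
        omega
      have h7 : ncl N ≤ 4 := by omega
      have h8 : ncl N * N.index ≤ 4 * 6 := Nat.mul_le_mul h7 h6
      omega
    · -- four classes in the quotient, two classes in `N`
      have ht : ncl N = 2 := by omega
      -- all nontrivial elements of `N` are conjugate to `x`
      have hall : ∀ y ∈ N, y ≠ 1 → IsConj x y := by
        intro y hy hy1
        by_contra hxy
        have h0 : Finite (ConjClasses G) := finite_classes
        have h3 : ({ConjClasses.mk 1, ConjClasses.mk x, ConjClasses.mk y} : Set (ConjClasses G)).ncard = 3 := by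
          have d1 : ConjClasses.mk (1 : G) ∉ ({ConjClasses.mk x, ConjClasses.mk y} : Set (ConjClasses G)) := by
            simp only [Set.mem_insert_iff, Set.mem_singleton_iff, not_or, ConjClasses.mk_eq_mk_iff_isConj,
              isConj_one_right]
            exact ⟨hx1, hy1⟩
          have d2 : ConjClasses.mk x ∉ ({ConjClasses.mk y} : Set (ConjClasses G)) := by
            simp only [Set.mem_singleton_iff, ConjClasses.mk_eq_mk_iff_isConj]
            exact hxy
          rw [Set.ncard_insert_of_notMem d1 (Set.toFinite _), Set.ncard_insert_of_notMem d2 (Set.toFinite _),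
            Set.ncard_singleton]
        have h4 : 3 ≤ ncl N := by
          rw [← h3]
          have e : ncl N = {c : ConjClasses G | ∃ x ∈ N, ConjClasses.mk x = c}.ncard := by
            rw [← Nat.card_coe_set_eq]
            rfl
          rw [e]
          refine Set.ncard_le_ncard ?_ (Set.toFinite _)
          intro c hc
          simp only [Set.mem_insert_iff, Set.mem_singleton_iff] at hc
          rcases hc with rfl | rfl | rfl
          · exact ⟨1, one_mem _, rfl⟩
          · exact ⟨x, hx, rfl⟩
          · exact ⟨y, hy, rfl⟩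
        omega
      -- the centralizer of `x` is larger than `N`
      set C := centralizer ({x} : Set G) with hCdef
      have hNC : N ≤ C := fun y hy => mem_centralizer_singleton_iff.2 (hNc y hy x hx)
      have hlt : 2 * C.index ≤ N.index := by
        rw [← Subgroup.relIndex_mul_index hNC]
        apply Nat.mul_le_mul_right
        by_contra hcon
        push Not at hcon
        have h1 : N.relIndex C ≠ 0 := (N.subgroupOf C).index_ne_zero_of_finite
        have h2 : N.relIndex C = 1 := by omega
        rw [Subgroup.relIndex_eq_one] at h2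
        exact hu (h2 (mem_centralizer_singleton_iff.2 hux))
      have hcard : Nat.card N ≤ 1 + C.index := by
        have h1 : (N : Set G) ⊆ insert 1 (ConjClasses.mk x).carrier := by
          intro y hy
          by_cases hy1 : y = 1
          · exact Or.inl hy1
          · right
            rw [ConjClasses.mem_carrier_iff_mk_eq, ConjClasses.mk_eq_mk_iff_isConj]
            exact (hall y hy hy1).symm
        have h2 := Set.ncard_le_ncard h1 (Set.toFinite _)
        have h3 := Set.ncard_insert_le (1 : G) (ConjClasses.mk x).carrier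
        have h5 : (ConjClasses.mk x).carrier.ncard = C.index := by
          rw [← ConjAct.orbit_eq_carrier_conjClasses, ← MulAction.index_stabilizer,
            ConjAct.stabilizer_eq_centralizer]
          exact Subgroup.index_map_equiv (centralizer ({x} : Set G)) ConjAct.toConjAct |>.symm ▸ rfl
        rw [← Nat.card_coe_set_eq, SetLike.coe_sort_coe] at h2
        omega
      omega
  · -- semiregular
    push Not at hreg
    have h2G : 2 ∣ Nat.card G := by
      rw [hcG]
      exact heven.two_dvd.mul_left _
    have : Fact (Nat.Prime 2) := ⟨Nat.prime_two⟩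
    obtain ⟨g, hg⟩ := exists_prime_orderOf_dvd_card' 2 h2G
    have hgg : g * g = 1 := by
      rw [← pow_two, ← hg]
      exact pow_orderOf_eq_one g
    have hgN : g ∉ N := by
      intro h
      have h1 : orderOf (⟨g, h⟩ : N) ∣ Nat.card N := orderOf_dvd_natCard _
      rw [Subgroup.orderOf_mk, hg] at h1
      rw [← Nat.not_even_iff_odd] at hodd
      exact hodd (even_iff_two_dvd.2 h1)
    have hinv : ∀ x ∈ N, g * x * g⁻¹ = x⁻¹ := by
      intro x hx
      have hgx : g * x * g⁻¹ ∈ N := ‹N.Normal›.conj_mem x hx g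
      set y := x * (g * x * g⁻¹) with hy
      have hyN : y ∈ N := mul_mem hx hgx
      by_contra hcon
      have hy1 : y ≠ 1 := fun h => hcon (eq_inv_of_mul_eq_one_right h)
      refine hreg y hyN hy1 g hgN ?_
      have e1 : g * y * g⁻¹ = y := by
        have e2 : g * y * g⁻¹ = (g * x * g⁻¹) * (g * g * x * (g * g)⁻¹) := by rw [hy]; group
        rw [e2, hgg, one_mul, inv_one, mul_one, hy]
        exact hNc _ hgx _ hx
      calc g * y = g * y * g⁻¹ * g := by group
        _ = y * g := by rw [e1]
    have hz : ∀ w : G ⧸ N, (g : G ⧸ N) * w = w * (g : G ⧸ N) := by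
      intro w
      obtain ⟨u, rfl⟩ := QuotientGroup.mk_surjective w
      rw [← QuotientGroup.mk_mul, ← QuotientGroup.mk_mul, QuotientGroup.eq]
      apply hcent
      intro x hx
      have h1 : (g * u)⁻¹ * (u * g) = u⁻¹ * g⁻¹ * u * g := by group
      rw [h1]
      -- `u⁻¹ g⁻¹ u g` centralizes `N`
      have hginv : g⁻¹ = g := inv_eq_of_mul_eq_one_left hgg
      have e1 : g * x * g⁻¹ = x⁻¹ := hinv x hx
      have hux : u * x⁻¹ * u⁻¹ ∈ N := ‹N.Normal›.conj_mem _ (inv_mem hx) u
      have e2 : g * (u * x⁻¹ * u⁻¹) * g⁻¹ = (u * x⁻¹ * u⁻¹)⁻¹ := hinv _ hux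
      have e3 : (u⁻¹ * g⁻¹ * u * g) * x * (u⁻¹ * g⁻¹ * u * g)⁻¹ = x := by
        calc (u⁻¹ * g⁻¹ * u * g) * x * (u⁻¹ * g⁻¹ * u * g)⁻¹
            = u⁻¹ * (g⁻¹ * (u * (g * x * g⁻¹) * u⁻¹) * g) * u := by group
          _ = u⁻¹ * (g * (u * x⁻¹ * u⁻¹) * g⁻¹) * u := by rw [e1, hginv]
          _ = x := by rw [e2]; group
      calc _ = ((u⁻¹ * g⁻¹ * u * g) * x * (u⁻¹ * g⁻¹ * u * g)⁻¹) * (u⁻¹ * g⁻¹ * u * g) := by group
        _ = _ := by rw [e3]
    have hz1 : (g : G ⧸ N) ≠ 1 := by
      rw [Ne, QuotientGroup.eq_one_iff]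
      exact hgN
    have hz2 : (g : G ⧸ N) * (g : G ⧸ N) = 1 := by
      rw [← QuotientGroup.mk_mul, hgg, QuotientGroup.mk_one]
    have h4 := four_mul_card_le hz1 hz2 hz
    rw [hQ] at h4
    generalize Nat.card (ConjClasses (G ⧸ N)) = κ at *
    generalize ncl N = t at *
    generalize N.index = h at *
    have h5 : κ ≤ 5 := by omega
    interval_cases κ
    · have : t * h ≤ 5 * h := Nat.mul_le_mul_right _ (by omega)
      omega
    · have : t * h ≤ 4 * h := Nat.mul_le_mul_right _ (by omega)
      omega
    · have : t * h ≤ 3 * h := Nat.mul_le_mul_right _ (by omega)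
      omega
    · have : t * h ≤ 2 * h := Nat.mul_le_mul_right _ (by omega)
      omega

end Cfsg.Agent.H404.K6
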