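import Mathlib
import Cfsg.Agent.H404.K6.Affine
import Cfsg.Agent.H735.S4822.Wreath
import Cfsg.Agent.H774.KB.Reduce
import Cfsg.Agent.H219.Pb.Affine
import Cfsg.Agent.Characters.Linear
import Cfsg.Agent.Blocks.Blau
import Cfsg.Agent.S0907

/-!
S4876, helper404: minimal normal subgroups `N` of index prime to `p`.

* `three_le_nOrb`: the principal block of a nonabelian simple group of order divisible by `p` has irreducible
  characters of three different degrees, hence at least three orbits under any group;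
* `seven_le_of_two_le`: `N` a nonabelian minimal normal subgroup, not simple: `k(B₀(G)) ≥ 7`;
* `case_b`: `N` a minimal normal subgroup of index prime to `p`, `O_{p'}(G) = 1`, `|G|_p ≥ 25` odd: either
  `k(B₀(G)) ≠ 6` or `N` is simple nonabelian and `C_G(N) = 1`.
-/

set_option autoImplicit false
set_option linter.unusedSectionVars false

namespace Cfsg.Agent.H404.K6

open Cfsg Cfsg.Agent.Blocks Cfsg.Agent.Blocks.Local Cfsg.Agent.Characters.Core
  Cfsg.Agent.Lib.MinNormalNonabelian Cfsg.Agent.Lib.MinNormal Cfsg.Agent.H793.PC Cfsg.Agent.H735.S4822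

open Subgroup ComplexConjugate

universe u

section single

variable {S : Type u} [Group S] [Finite S] {p : ℕ} [hpf : Fact p.Prime] {M : Ideal AlgInt}

/-- the trivial character -/
noncomputable def triv (S : Type u) [Group S] : IrrCharacter S := ⟨fun _ => 1, isIrr_one⟩

theorem triv_mem (hM : IsPModular p M) : triv S ∈ principalBlock M S := by
  have hMp : M.IsPrime := isPrime_of_isPModular hM
  intro x
  show MemLocalIdeal M (centralChar (fun _ => 1) x - centralChar (fun _ => 1) x)
  rw [sub_self]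
  exact memLocalIdeal_zero

theorem int_of_mul {d : ℕ} {α : ℂ} (hα : IsIntegral ℤ α) (h : 1 + (d : ℂ) * α = 0) : d = 1 := by
  have hd : (d : ℂ) ≠ 0 := by
    rintro h0
    rw [h0, zero_mul, add_zero] at h
    exact one_ne_zero h
  have h1 : α = algebraMap ℚ ℂ (-1 / (d : ℚ)) := by
    have h2 : α = -1 / (d : ℂ) := by
      field_simp
      linear_combination h
    rw [h2]
    simp
  rw [h1, isIntegral_algebraMap_iff (algebraMap ℚ ℂ).injective] at hα
  obtain ⟨n, hn⟩ := (IsIntegrallyClosed.isIntegral_iff (R := ℤ) (K := ℚ)).1 hα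
  have hd' : (d : ℚ) ≠ 0 := by exact_mod_cast hd
  have h3 : (n : ℚ) * d = -1 := by
    have h4 : (n : ℚ) = -1 / d := by simpa using hn
    rw [h4]
    field_simp
  have h4 : n * (d : ℤ) = -1 := by exact_mod_cast h3
  have h5 : (d : ℤ) ∣ 1 := ⟨-n, by linear_combination h4⟩
  exact_mod_cast Int.eq_one_of_dvd_one (by positivity) h5

/-- all nontrivial characters in the principal block have the same degree `d`: then `d = 1` -/
theorem degree_one (hM : IsPModular p M) {x : S} (hx : p ∣ orderOf x) (d : ℕ)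
    (hd : ∀ θ ∈ principalBlock M S, θ ≠ triv S → (θ : S → ℂ) 1 = d) :
    d = 1 ∧ ∃ θ ∈ principalBlock M S, θ ≠ triv S := by
  classical
  have hfin : Finite (IrrCharacter S) := Characters.Core.finite_irr
  have h0 := S0907.result p M hM (principalBlock M S) Blocks.PrincipalSection.isPBlock_principalBlock 1 x
    (by simpa using hpf.out.one_lt.ne') hx
  have hB : (principalBlock M S).Finite := Set.toFinite _
  rw [finsum_mem_eq_finite_toFinset_sum _ hB] at h0
  have ht : triv S ∈ hB.toFinset := by rw [Set.Finite.mem_toFinset]; exact triv_mem hM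
  rw [← Finset.add_sum_erase _ _ ht] at h0
  have h1 : ((triv S : IrrCharacter S) : S → ℂ) 1 * conj (((triv S : IrrCharacter S) : S → ℂ) x) = 1 := by
    show (1 : ℂ) * conj (1 : ℂ) = 1
    simp
  have h2 : ∑ θ ∈ hB.toFinset.erase (triv S), (θ : S → ℂ) 1 * conj ((θ : S → ℂ) x) =
      (d : ℂ) * ∑ θ ∈ hB.toFinset.erase (triv S), conj ((θ : S → ℂ) x) := by
    rw [Finset.mul_sum]
    refine Finset.sum_congr rfl fun θ hθ => ?_
    rw [Finset.mem_erase, Set.Finite.mem_toFinset] at hθ
    rw [hd θ hθ.2 hθ.1]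
  rw [h1, h2] at h0
  refine ⟨int_of_mul ?_ h0, ?_⟩
  · refine IsIntegral.sum _ fun θ _ => ?_
    rw [← Characters.Core.isCharacter_apply_inv (Characters.Core.isIrr_isCharacter θ.2)]
    exact Blocks.Blau.isIntegral_of_isCharacter (Characters.Core.isIrr_isCharacter θ.2) _
  · by_contra hcon
    push Not at hcon
    have h3 : hB.toFinset.erase (triv S) = ∅ := by
      rw [Finset.eq_empty_iff_forall_notMem]
      intro θ hθ
      rw [Finset.mem_erase, Set.Finite.mem_toFinset] at hθ
      exact hθ.1 (hcon θ hθ.2)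
    rw [h3, Finset.sum_empty, mul_zero, add_zero] at h0
    exact one_ne_zero h0

omit [Finite S] in
theorem commutator_top [IsSimpleGroup S] (hna : ¬ ∀ x y : S, Commute x y) : commutator S = ⊤ := by
  rcases (inferInstance : (commutator S).Normal).eq_bot_or_eq_top with h | h
  · refine absurd ?_ hna
    rw [commutator_eq_bot_iff_center_eq_top] at h
    intro a b
    have h1 : b ∈ center S := h ▸ mem_top b
    exact mem_center_iff.1 h1 a
  · exact h

omit [Finite S] in
theorem eq_one_of_perf (hp : commutator S = ⊤) {χ : S → ℂ} (hχ : IsIrrCharacter S χ) (h1 : χ 1 = 1) : χ = 1 := by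
  obtain ⟨f, hf⟩ := Characters.Linear.exists_hom_of_isIrrCharacter hχ h1
  have h2 : ∀ x : S, f x = 1 := by
    intro x
    have : commutator S ≤ f.ker := by
      rw [commutator_def, Subgroup.commutator_le]
      intro a _ b _
      rw [MonoidHom.mem_ker, map_commutatorElement]
      exact commutatorElement_eq_one_iff_mul_comm.2 (mul_comm _ _)
    rw [hp] at this
    exact this (Subgroup.mem_top x)
  rw [hf]
  funext x
  simp [h2 x]

/-- Two nontrivial characters of different degrees in the principal block of a perfect group of order divisible by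
`p`. -/
theorem exists_two_degrees (hM : IsPModular p M) (hp : commutator S = ⊤) (hpS : p ∣ Nat.card S) :
    ∃ θ₁ ∈ principalBlock M S, ∃ θ₂ ∈ principalBlock M S, (θ₁ : S → ℂ) 1 ≠ 1 ∧ (θ₂ : S → ℂ) 1 ≠ 1 ∧
      (θ₁ : S → ℂ) 1 ≠ (θ₂ : S → ℂ) 1 := by
  obtain ⟨x, hx⟩ := exists_prime_orderOf_dvd_card' p hpS
  have key : ∀ θ : IrrCharacter S, θ ≠ triv S → (θ : S → ℂ) 1 ≠ 1 := by
    intro θ hθ h1
    exact hθ (Subtype.ext (eq_one_of_perf hp θ.2 h1))
  -- one nontrivial member
  obtain ⟨θ₁, hθ₁, hne₁⟩ : ∃ θ ∈ principalBlock M S, θ ≠ triv S := by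
    by_contra hcon
    push Not at hcon
    obtain ⟨θ, h1, h2⟩ := (degree_one hM (x := x) (hx ▸ dvd_rfl) 0 fun θ h1 h2 => absurd (hcon θ h1) h2).2
    exact h2 (hcon θ h1)
  obtain ⟨d, hd⟩ : ∃ d : ℕ, (θ₁ : S → ℂ) 1 = d :=
    ⟨charDegree (θ₁ : S → ℂ), Blocks.Basic.irr_one_eq_charDegree θ₁.2⟩
  by_contra hcon
  push Not at hcon
  have h3 := (degree_one hM (x := x) (hx ▸ dvd_rfl) d fun θ h1 h2 => by
    rw [← hcon θ₁ hθ₁ θ h1 (key _ hne₁) (key _ h2), hd]).1
  rw [h3] at hd
  exact key _ hne₁ (by rw [hd]; simp)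

end single

variable {G : Type u} [Group G] [Finite G] {p : ℕ} [hpf : Fact p.Prime] {M : Ideal AlgInt}

/-- The principal block of a nonabelian simple group has at least three orbits of irreducible characters. -/
theorem three_le_nOrb (hM : IsPModular p M) {S : Subgroup G} (hs : IsSimpleGroup S)
    (hna : ¬ ∀ x y : S, Commute x y) (hpS : p ∣ Nat.card S) : 3 ≤ nOrb M S := by
  classical
  obtain ⟨θ₁, h1, θ₂, h2, hd1, hd2, hd⟩ := exists_two_degrees hM (commutator_top hna) hpS
  have hfinS : Finite (IrrCharacter S) := finite_irr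
  let dg : Quotient (relS M S) → ℂ := Quotient.lift (fun a => (a.1 : S → ℂ) 1) (by
    rintro a b ⟨g, hg, hab⟩
    show (a.1 : S → ℂ) 1 = (b.1 : S → ℂ) 1
    rw [hab 1]
    exact congrArg (a.1 : S → ℂ) (Subtype.ext (by simp)))
  let f : Fin 3 → Quotient (relS M S) :=
    ![Quotient.mk _ ⟨triv S, triv_mem hM⟩, Quotient.mk _ ⟨θ₁, h1⟩, Quotient.mk _ ⟨θ₂, h2⟩]
  have hf : Function.Injective f := by
    have e0 : dg (f 0) = 1 := rfl
    have e1 : dg (f 1) = (θ₁ : S → ℂ) 1 := rfl
    have e2 : dg (f 2) = (θ₂ : S → ℂ) 1 := rfl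
    intro i j hij
    have h := congrArg dg hij
    fin_cases i <;> fin_cases j <;> first | rfl | exfalso
    · exact hd1 (by rw [← e1, ← e0]; exact h.symm)
    · exact hd2 (by rw [← e2, ← e0]; exact h.symm)
    · exact hd1 (by rw [← e1, ← e0]; exact h)
    · exact hd (by rw [← e1, ← e2]; exact h)
    · exact hd2 (by rw [← e2, ← e0]; exact h)
    · exact hd (by rw [← e1, ← e2]; exact h.symm)
  have := Nat.card_le_card_of_injective f hf
  rwa [Nat.card_fin] at this

theorem six_le_multichoose {m t : ℕ} (hm : 3 ≤ m) (ht : 2 ≤ t) : 6 ≤ Nat.multichoose m t := by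
  obtain ⟨a, rfl⟩ := Nat.exists_eq_add_of_le hm
  obtain ⟨b, rfl⟩ := Nat.exists_eq_add_of_le ht
  have h1 : ∀ a b : ℕ, 3 ≤ Nat.multichoose (3 + a) (1 + b) := by
    intro a b
    induction b with
    | zero => rw [Nat.multichoose_one_right]; omega
    | succ b ih =>
      have e1 : 3 + a = (2 + a) + 1 := by ring
      have e2 : 1 + (b + 1) = (1 + b) + 1 := by ring
      rw [e1, e2, Nat.multichoose_succ_succ, ← e1]
      omega
  have h3 : ∀ b : ℕ, 3 ≤ Nat.multichoose 2 (2 + b) := by
    intro b
    rw [Nat.multichoose_two]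
    omega
  induction a with
  | zero =>
    have e1 : 3 + 0 = 2 + 1 := rfl
    have e2 : 2 + b = (1 + b) + 1 := by ring
    rw [e1, e2, Nat.multichoose_succ_succ]
    have h4 := h1 0 b
    have h5 := h3 b
    rw [e2] at h5
    rw [e1] at h4
    omega
  | succ a ih =>
    have e1 : 3 + (a + 1) = (3 + a) + 1 := by ring
    have e2 : 2 + b = (1 + b) + 1 := by ring
    rw [e1, e2, Nat.multichoose_succ_succ, ← e2]
    have := ih (by omega)
    omega

/-- Two classes in a nontrivial group. -/
theorem two_le_classes {Q : Type*} [Group Q] [Finite Q] (h : 2 ≤ Nat.card Q) : 2 ≤ Nat.card (ConjClasses Q) := by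
  classical
  have hn : Nontrivial Q := Finite.one_lt_card_iff_nontrivial.1 h
  obtain ⟨a, ha⟩ := exists_ne (1 : Q)
  have : Nontrivial (ConjClasses Q) := ⟨ConjClasses.mk a, ConjClasses.mk 1, fun h => ha (by
    rw [ConjClasses.mk_eq_mk_iff_isConj] at h
    exact isConj_one_left.1 h)⟩
  have : Finite (ConjClasses Q) := inferInstance
  exact Finite.one_lt_card

/-- The stabilizer of a factor contains the centralizer of a Sylow `p`-subgroup. -/
theorem le_stb {N : Subgroup G} [hN : N.Normal] (h : Dec N) (hidx : ¬ p ∣ N.index) (P : Sylow p G) (S : minSet N)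
    (hpS : p ∣ Nat.card (S : Subgroup G)) :
    N ⊔ Subgroup.centralizer ((P : Subgroup G) : Set G) ≤ stb S := by
  refine sup_le ?_ ?_
  · intro x hx
    rw [mem_stb]
    apply Subtype.ext
    have h1 : x ∈ normalizer ((S : Subgroup G) : Set G) := S.2.2.2.1 hx
    ext y
    rw [mem_cj]
    rw [mem_normalizer_iff''] at h1
    exact (h1 y).symm
  · intro c hc
    rw [mem_stb]
    obtain ⟨x, hx⟩ := exists_prime_orderOf_dvd_card' p hpS
    have hx1 : (x : G) ≠ 1 := by
      intro h1
      have h2 : x = 1 := Subtype.ext h1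
      rw [h2, orderOf_one] at hx
      exact hpf.out.one_lt.ne hx
    -- `x` lies in a Sylow subgroup which is conjugate to `P` in `N`
    obtain ⟨Q, hQ⟩ : ∃ Q : Sylow p G, (x : G) ∈ (Q : Subgroup G) := by
      have h1 : IsPGroup p (Subgroup.zpowers (x : G)) := by
        apply IsPGroup.of_card (n := 1)
        rw [Nat.card_zpowers, Subgroup.orderOf_coe, hx, pow_one]
      obtain ⟨Q, hQ⟩ := h1.exists_le_sylow
      exact ⟨Q, hQ (Subgroup.mem_zpowers _)⟩
    have hPN := sylow_le N hidx P
    have hQN := sylow_le N hidx Q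
    obtain ⟨n, hn⟩ := MulAction.exists_smul_eq N (Q.subtype hQN) (P.subtype hPN)
    have h1 : (n : G) • Q = P := by
      apply Sylow.ext
      have h2 := congrArg (fun R : Sylow p N => ((R : Subgroup N)).map N.subtype) hn
      simp only [Sylow.coe_subtype] at h2
      rw [Subgroup.map_subgroupOf_eq_of_le hPN] at h2
      rw [← h2]
      ext y
      constructor
      · intro hy
        have hy' : (n : G)⁻¹ * y * n ∈ (Q : Subgroup G) := by
          have := Subgroup.mem_pointwise_smul_iff_inv_smul_mem.1 hy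
          simpa [MulAut.smul_def] using this
        have hyN : y ∈ N := by
          have h5 := hN.conj_mem _ (hQN hy') n
          have : (n : G) * ((n : G)⁻¹ * y * n) * (n : G)⁻¹ = y := by group
          rwa [this] at h5
        refine ⟨⟨y, hyN⟩, ?_, rfl⟩
        rw [SetLike.mem_coe, Sylow.smul_def, Sylow.pointwise_smul_def,
          Subgroup.mem_pointwise_smul_iff_inv_smul_mem]
        show _ ∈ (Q : Subgroup G)
        simpa [MulAut.smul_def] using hy'
      · rintro ⟨z, hz, rfl⟩
        rw [SetLike.mem_coe, Sylow.smul_def, Sylow.pointwise_smul_def,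
          Subgroup.mem_pointwise_smul_iff_inv_smul_mem] at hz
        rw [Sylow.smul_def, Sylow.pointwise_smul_def, Subgroup.mem_pointwise_smul_iff_inv_smul_mem]
        exact hz
    -- the conjugate of `x`
    have hxn : (n : G) * x * (n : G)⁻¹ ∈ (P : Subgroup G) := by
      rw [← h1]
      exact Subgroup.smul_mem_pointwise_smul _ (MulAut.conj (n : G)) _ hQ
    have hxS : (n : G) * x * (n : G)⁻¹ ∈ (S : Subgroup G) :=
      (mem_normalizer_iff.1 (S.2.2.2.1 n.2) x).1 x.2
    by_contra hne
    set y : G := (n : G) * x * (n : G)⁻¹ with hy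
    have hcy : c⁻¹ * y * c = y := by
      have := mem_centralizer_iff.1 hc y hxn
      rw [mul_assoc, this]
      group
    have hy2 : y ∈ ((cj c S : minSet N) : Subgroup G) := by
      rw [mem_cj, hcy]
      exact hxS
    have h3 : ∀ t ∈ (S : Subgroup G), Commute y t := by
      intro t ht
      exact h.pw (i := cj c S) (j := S) hne y t hy2 ht
    have h4 := h.ctr S S.2 y hxS h3
    apply hx1
    have : (x : G) = (n : G)⁻¹ * y * n := by rw [hy]; group
    rw [this, h4]
    group

/-- `N` a nonabelian minimal normal subgroup of index prime to `p`, not simple. -/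
theorem seven_le_of_two_le (hM : IsPModular p M) (N : Subgroup G) [hN : N.Normal]
    (hmin : ∀ K : Subgroup G, K.Normal → K ≤ N → K = ⊥ ∨ K = N) (hna : ¬ ∀ x ∈ N, ∀ y ∈ N, Commute x y)
    (hidx : ¬ p ∣ N.index) (hp : p ∣ Nat.card G) (ht : 2 ≤ Nat.card (minSet N)) :
    7 ≤ Nat.card (principalBlock M G) := by
  classical
  obtain ⟨P⟩ : Nonempty (Sylow p G) := inferInstance
  have h := dec_of hmin hna
  obtain ⟨hne, -, -, hsimp, hctr, htr⟩ := nonabelian_structure N hmin hna
  obtain ⟨S0, hS0⟩ := hne
  let S : minSet N := ⟨S0, hS0⟩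
  have hsimpS : IsSimpleGroup (S : Subgroup G) := hsimp _ S.2
  have hnaS : ¬ ∀ x y : (S : Subgroup G), Commute x y := by
    intro hc
    obtain ⟨x, hx⟩ := exists_ne (1 : (S : Subgroup G))
    apply hx
    apply Subtype.ext
    exact hctr _ S.2 x x.2 fun t ht => congrArg Subtype.val (hc x ⟨t, ht⟩).eq
  have htr' : ∀ T : minSet N, ∃ g : G, cj g S = T := by
    intro T
    obtain ⟨g, hg⟩ := htr _ S.2 _ T.2
    exact ⟨g, Subtype.ext hg.symm⟩
  -- `p` divides the order of a factor
  have hpS : p ∣ Nat.card (S : Subgroup G) := by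
    by_contra hcon
    have hcard : ∀ T : minSet N, Nat.card (T : Subgroup G) = Nat.card (S : Subgroup G) := by
      intro T
      obtain ⟨g, hg⟩ := htr' T
      exact (Nat.card_congr (iso hg).toEquiv).symm
    have hft : Fintype (minSet N) := Fintype.ofFinite _
    have h1 : Nat.card N = ∏ T : minSet N, Nat.card (T : Subgroup G) := by
      rw [← Nat.card_congr h.E.toEquiv, Nat.card_pi]
    have h2 : p ∣ Nat.card N := by
      have h3 : p ∣ Nat.card N * N.index := by rw [N.card_mul_index]; exact hp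
      exact (hpf.out.dvd_mul.1 h3).resolve_right hidx
    rw [h1] at h2
    obtain ⟨T, -, hT⟩ := (Prime.dvd_finsetProd_iff hpf.out.prime _).1 h2
    rw [hcard T] at hT
    exact hcon hT
  set K : Subgroup G := N ⊔ Subgroup.centralizer ((P : Subgroup G) : Set G) with hK
  have hKn : K.Normal := sup_normal N hidx P
  have hKle : K ≤ stb S := le_stb h hidx P S hpS
  have hcnt := count_wreath hM hidx P K le_sup_left le_sup_right h S htr'
  have h3 := three_le_nOrb hM hsimpS hnaS hpS
  have h6 := six_le_multichoose h3 ht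
  have hKi : 2 ≤ Nat.card (G ⧸ K) := by
    have h7 := Subgroup.index_dvd_of_le hKle
    rw [index_stb hmin hna S] at h7
    have h8 : K.index ≠ 0 := Subgroup.index_ne_zero_of_finite
    exact ht.trans (Nat.le_of_dvd (Nat.pos_of_ne_zero h8) h7)
  have h7 := two_le_classes hKi
  omega

/-- **CASE B.** A minimal normal subgroup of index prime to `p`. -/
theorem case_b (hM : IsPModular p M) (hodd : Odd p) (hk : Nat.card (principalBlock M G) = 6)
    (hcore : pPrimeCore p G = ⊥) (N : Subgroup G) [hN : N.Normal]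
    (hmin : ∀ K : Subgroup G, K.Normal → K ≤ N → K = ⊥ ∨ K = N) (hN1 : N ≠ ⊥)
    (hidx : ¬ p ∣ N.index) (h25 : ∀ P : Sylow p G, 25 ≤ Nat.card P) :
    IsSimpleGroup N ∧ (¬ ∀ x y : N, Commute x y) ∧ Subgroup.centralizer (N : Set G) = ⊥ := by
  classical
  obtain ⟨P⟩ : Nonempty (Sylow p G) := inferInstance
  have hpG : p ∣ Nat.card G := by
    have h1 := h25 P
    obtain ⟨n, hn⟩ := P.2.exists_card_eq
    have hn0 : n ≠ 0 := by
      rintro rfl
      rw [hn] at h1
      simp at h1
    have h2 : p ∣ Nat.card P := by rw [hn]; exact dvd_pow_self p hn0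
    exact h2.trans (Subgroup.card_subgroup_dvd_card _)
  have hall : ∀ K : Subgroup G, K.Normal → ¬ p ∣ Nat.card K → K = ⊥ := by
    intro K hK hpK
    have h1 : K ≤ pPrimeCore p G :=
      le_sSup ⟨hK, Nat.Coprime.symm ((Nat.Prime.coprime_iff_not_dvd hpf.out).2 hpK)⟩
    rw [hcore] at h1
    exact le_bot_iff.1 h1
  by_cases hab : ∀ x ∈ N, ∀ y ∈ N, Commute x y
  · -- affine case
    exfalso
    obtain ⟨q, hq, hqN, -⟩ := abelian_structure N hN1 hmin hab
    have : Fact q.Prime := ⟨hq⟩
    have hqp : q = p := by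
      obtain ⟨n, hn⟩ := hqN.exists_card_eq
      have h1 : p ∣ Nat.card N := by
        by_contra hc
        exact hN1 (hall N hN hc)
      rw [hn] at h1
      exact ((Nat.prime_dvd_prime_iff_eq hpf.out hq).1 (hpf.out.dvd_of_dvd_pow h1)).symm
    subst hqp
    have hNc : ∀ x ∈ N, ∀ y ∈ N, x * y = y * x := fun x hx y hy => (hab x hx y hy).eq
    have hC := H774.KB.cent_eq N hqN hNc hidx hall
    have h1 := H219.Pb.card_principalBlock hM N hqN hC.le
    rw [hk] at h1
    -- `N` is the Sylow subgroup
    have h2 : 25 ≤ Nat.card N := by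
      have h3 := h25 (hqN.toSylow hidx)
      exact h3
    have hNodd : Odd (Nat.card N) := by
      obtain ⟨n, hn⟩ := hqN.exists_card_eq
      rw [hn]
      exact hodd.pow
    have hcop : (Nat.card N).Coprime N.index := by
      obtain ⟨n, hn⟩ := hqN.exists_card_eq
      rw [hn]
      exact Nat.Coprime.pow_left n ((Nat.Prime.coprime_iff_not_dvd hpf.out).2 hidx)
    exact card_classes_ne_six N hNc hC hNodd hcop h2 h1.symm
  · have h := dec_of hmin hab
    obtain ⟨hne, -, hsup, hsimp, hctr, htr⟩ := nonabelian_structure N hmin hab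
    obtain ⟨S0, hS0⟩ := hne
    have ht : Nat.card (minSet N) < 2 := by
      by_contra hcon
      push Not at hcon
      have := seven_le_of_two_le hM N hmin hab hidx hpG hcon
      omega
    have hSN : S0 = N := by
      have hsub : ∀ T ∈ minSet N, T = S0 := by
        have h1 : Subsingleton (minSet N) := Finite.card_le_one_iff_subsingleton.1 (by omega)
        intro T hT
        exact congrArg Subtype.val (h1.elim ⟨T, hT⟩ ⟨S0, hS0⟩)
      rw [← hsup]
      exact le_antisymm (le_sSup hS0) (sSup_le fun T hT => (hsub T hT).le)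
    have hs : IsSimpleGroup N := by
      have := hsimp _ hS0
      rwa [hSN] at this
    have hctr' : ∀ z ∈ N, (∀ t ∈ N, Commute z t) → z = 1 := by
      have := hctr _ hS0
      rwa [hSN] at this
    refine ⟨hs, ?_, ?_⟩
    · intro hc
      exact hab fun x hx y hy => congrArg Subtype.val (hc ⟨x, hx⟩ ⟨y, hy⟩).eq
    · refine hall _ inferInstance fun hdvd => hidx ?_
      have hdisj : Disjoint (Subgroup.centralizer (N : Set G)) N := by
        rw [Subgroup.disjoint_def]
        intro x hx hxN
        exact hctr' x hxN fun t ht => ((mem_centralizer_iff.1 hx t ht)).symm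
      have h1 : N.relIndex (Subgroup.centralizer (N : Set G)) ∣ N.index := relIndex_dvd_index_of_normal _ _
      rw [← inf_relIndex_right, inf_comm, hdisj.eq_bot, relIndex_bot_left] at h1
      exact hdvd.trans h1

end Cfsg.Agent.H404.K6
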