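import Mathlib
import Cfsg.Agent.H404.K6.CaseB
import Cfsg.Agent.H61.K6.CritD
import Cfsg.Agent.H700.PrinCrit
import Cfsg.Agent.CharactersDeep.ModCongr

/-!
S4876, helper404: criteria by degrees.

* `mem_of_degree`: if `C_G(P)` is a `p`-group, every irreducible character of degree prime to `p` is in `B₀(G)`;
* `KRow.of_degs`: `C_X(P)` a `p`-group and seven different degrees prime to `p`;
* `KRow.of_six`: `k(B₀(X)) ≥ 7` and six members of `B₀(X)` pairwise not conjugate under `Aut X`;
* `KRow.of_six_degs`: `C_X(P)` a `p`-group, six different degrees prime to `p` and `k(B₀(X)) ≥ 7`.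
-/

set_option autoImplicit false
set_option linter.unusedSectionVars false

namespace Cfsg.Agent.H404.K6

open Cfsg Cfsg.Agent.Blocks Cfsg.Agent.Blocks.Local Cfsg.Agent.Characters.Core Cfsg.Agent.H61.K6
  Cfsg.Agent.H735.S4822

universe u v

/-- The centralizer of a Sylow `p`-subgroup is a `p`-group. -/
def CP (p : ℕ) (X : Type*) [Group X] : Prop :=
  ∃ P : Sylow p X, ∀ z ∈ Subgroup.centralizer ((P : Subgroup X) : Set X), ∃ k : ℕ, orderOf z = p ^ k

theorem mem_of_degree {G : Type*} [Group G] [Finite G] {p : ℕ} [Fact p.Prime] {M : Ideal AlgInt}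
    (hM : IsPModular p M) (h : CP p G) (χ : IrrCharacter G) (hd : ¬ p ∣ charDegree (χ : G → ℂ)) :
    χ ∈ principalBlock M G := by
  obtain ⟨P, hP⟩ := h
  rw [H700.PrinCrit.mem_principalBlock_iff hM P.isPGroup' P.not_dvd_index χ hd]
  intro x hx
  have h1 : IsPPart p x x := ⟨1, mul_one x, Commute.one_right x, hP x hx, by
    rw [orderOf_one]
    intro h1
    exact (Fact.out : p.Prime).ne_one (Nat.dvd_one.1 h1)⟩
  have h2 := CharactersDeep.ModCongr.memLocalIdeal_character_sub hM χ.2 x x h1
  rwa [inv_mul_cancel] at h2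

theorem CP.congr {p : ℕ} {X Y : Type*} [Group X] [Finite X] [Group Y] [Finite Y] [Fact p.Prime] (e : X ≃* Y)
    (h : CP p X) : CP p Y := by
  obtain ⟨P, hP⟩ := h
  refine ⟨P.mapSurjective (f := e.toMonoidHom) e.surjective, fun z hz => ?_⟩
  have h1 : e.symm z ∈ Subgroup.centralizer ((P : Subgroup X) : Set X) := by
    rw [Subgroup.mem_centralizer_iff]
    intro x hx
    have h2 := Subgroup.mem_centralizer_iff.1 hz (e x) ⟨x, hx, rfl⟩
    apply e.injective
    rw [map_mul, map_mul, e.apply_symm_apply]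
    exact h2
  obtain ⟨k, hk⟩ := hP _ h1
  exact ⟨k, by rw [← hk]; exact (orderOf_injective e.symm.toMonoidHom e.symm.injective z).symm⟩

/-- Members of the principal block of degrees prime to `p`. -/
theorem exists_mem_of_degs {X : Type v} [Group X] [Finite X] {p : ℕ} [Fact p.Prime] {M : Ideal AlgInt}
    (hM : IsPModular p M) (h : CP p X) {d : ℕ} (hd : d ∈ charDegrees X) (hp : ¬ p ∣ d) :
    ∃ χ ∈ principalBlock M X, (χ : X → ℂ) 1 = d := by
  obtain ⟨χ, hχ⟩ := hd
  refine ⟨χ, mem_of_degree hM h χ (by rw [hχ]; exact hp), ?_⟩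
  rw [Blocks.Basic.irr_one_eq_charDegree χ.2, hχ]

/-- **Criterion by degrees.** -/
theorem KGe.of_degs {p n : ℕ} [Fact p.Prime] {X : Type v} [Group X] [Finite X] (h : CP p X) (L : List ℕ)
    (hL : ∀ d ∈ L, d ∈ charDegrees X ∧ ¬ p ∣ d) (hnd : L.Nodup) (hn : n ≤ L.length) : KGe.{u, v} p n X := by
  classical
  refine KGe.of_degrees fun M hM => ⟨L.toFinset, ?_, fun d hd => ?_⟩
  · rw [List.toFinset_card_of_nodup hnd]
    exact hn
  · rw [List.mem_toFinset] at hd
    exact exists_mem_of_degs hM h (hL d hd).1 (hL d hd).2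

/-- **Criterion by degrees**: seven different degrees prime to `p`. -/
theorem KRow.of_degs {p : ℕ} [Fact p.Prime] {X : Type v} [Group X] [Finite X] (h : CP p X) (L : List ℕ)
    (hL : ∀ d ∈ L, d ∈ charDegrees X ∧ ¬ p ∣ d) (hnd : L.Nodup) (hn : 7 ≤ L.length) : KRow.{u, v} p X :=
  KGe.of_degs h L hL hnd hn

/-- **Criterion**: `k(B₀(X)) ≥ 7` and six members of `B₀(X)` pairwise not conjugate under `Aut X`. -/
theorem KRow.of_six {p : ℕ} {X : Type v} [Group X] [Finite X]
    (h7 : ∀ (M : Ideal AlgInt) (G : Type u) [Group G] [Finite G] (K : Subgroup G), Sit p M G K X →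
      7 ≤ Nat.card (principalBlock M K))
    (h : ∀ M : Ideal AlgInt, IsPModular p M → ∃ T : Finset (IrrCharacter X), 6 ≤ T.card ∧
      (∀ χ ∈ T, χ ∈ principalBlock M X) ∧
      ∀ χ ∈ T, ∀ ψ ∈ T, ∀ σ : X ≃* X, (∀ x, (ψ : X → ℂ) x = (χ : X → ℂ) (σ x)) → χ = ψ) :
    KRow.{u, v} p X := by
  classical
  intro M G _ _ K hS
  have : Fact p.Prime := ⟨hS.prime⟩
  have hKn := hS.normal
  have := Fintype.ofFinite G
  have := Fintype.ofFinite K
  obtain ⟨f⟩ := hS.iso
  obtain ⟨P⟩ : Nonempty (Sylow p G) := inferInstance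
  set H : Subgroup G := K ⊔ Subgroup.centralizer ((P : Subgroup G) : Set G) with hH
  have hHn : H.Normal := sup_normal K hS.ndvd P
  obtain ⟨r, h1, h2⟩ := count_index hS.modular K hS.ndvd P H hH
  have h7' := h7 M G K hS
  by_cases htop : H = ⊤
  · rw [htop, Subgroup.index_top] at h1
    have h3 : 0 < Nat.card (ConjClasses (G ⧸ H)) := Nat.card_pos
    omega
  · have hi : 2 ≤ Nat.card (G ⧸ H) := by
      rw [← Subgroup.index_eq_card]
      have h3 : H.index ≠ 0 := Subgroup.index_ne_zero_of_finite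
      have h4 : H.index ≠ 1 := fun h5 => htop (Subgroup.index_eq_one.1 h5)
      omega
    have hcl := two_le_classes hi
    obtain ⟨T, hTn, hTB, hTσ⟩ := h M hS.modular
    have hfinX : Finite (IrrCharacter X) := finite_irr
    let one : IrrCharacter X := ⟨fun _ => 1, isIrr_one⟩
    have hT5 : 5 ≤ (T.erase one).card := by
      have := Finset.pred_card_le_card_erase (s := T) (a := one)
      omega
    have hcnt := count_family hS.modular K hS.ndvd P H le_sup_left le_sup_right
      (ι := (T.erase one : Finset (IrrCharacter X))) (fun χ => tw f.symm χ.1)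
      (fun χ => tw_mem f.symm (hTB χ.1 (Finset.mem_of_mem_erase χ.2))) ?_ ?_
    · rw [Nat.card_eq_finsetCard] at hcnt
      omega
    · intro χ h1
      apply Finset.ne_of_mem_erase χ.2
      apply Subtype.ext
      funext x
      have h2 := congrFun h1 (f x)
      rw [tw_apply, f.symm_apply_apply] at h2
      exact h2
    · intro χ ψ g h1
      apply Subtype.ext
      refine hTσ χ.1 (Finset.mem_of_mem_erase χ.2) ψ.1 (Finset.mem_of_mem_erase ψ.2)
        ((f.trans (MulAut.conjNormal g : MulAut K)).trans f.symm) fun x => ?_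
      have h2 := congrFun (congrArg (fun θ : IrrCharacter K => (θ : K → ℂ)) h1) (f x)
      rw [tw_apply, f.symm_apply_apply, Covering.conjIrr_apply, tw_apply] at h2
      exact h2

theorem card_congr_block {p : ℕ} {M : Ideal AlgInt} (_hM : IsPModular p M) {X Y : Type*} [Group X] [Group Y] [Finite X]
    [Finite Y] (f : X ≃* Y) : Nat.card (principalBlock M X) ≤ Nat.card (principalBlock M Y) := by
  have hfin : Finite (IrrCharacter Y) := finite_irr
  refine Nat.card_le_card_of_injective
    (fun χ : principalBlock M X => (⟨tw f.symm χ.1, tw_mem f.symm χ.2⟩ : principalBlock M Y)) ?_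
  intro a b hab
  apply Subtype.ext
  apply Subtype.ext
  funext x
  have h1 := congrFun (congrArg (fun θ : principalBlock M Y => (θ.1 : Y → ℂ)) hab) (f x)
  rw [tw_apply, tw_apply, f.symm_apply_apply] at h1
  exact h1

/-- `C_X(P)` a `p`-group, six different degrees prime to `p` and a seventh character of degree prime to `p`. -/
theorem KRow.of_six_degs {p : ℕ} [Fact p.Prime] {X : Type v} [Group X] [Finite X] (h : CP p X) (L : List ℕ)
    (hL : ∀ d ∈ L, d ∈ charDegrees X ∧ ¬ p ∣ d) (hnd : L.Nodup) (hn : 6 ≤ L.length)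
    (h7 : ∀ M : Ideal AlgInt, IsPModular p M → 7 ≤ Nat.card (principalBlock M X)) : KRow.{u, v} p X := by
  classical
  refine KRow.of_six (fun M G _ _ K hS => ?_) fun M hM => ?_
  · obtain ⟨f⟩ := hS.iso
    exact (h7 M hS.modular).trans (card_congr_block hS.modular f)
  · have hex : ∀ d : ℕ, ∃ χ : IrrCharacter X, d ∈ L → χ ∈ principalBlock M X ∧ (χ : X → ℂ) 1 = d := by
      intro d
      by_cases hd : d ∈ L
      · obtain ⟨χ, h1, h2⟩ := exists_mem_of_degs hM h (hL d hd).1 (hL d hd).2
        exact ⟨χ, fun _ => ⟨h1, h2⟩⟩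
      · exact ⟨⟨fun _ => 1, isIrr_one⟩, fun h1 => absurd h1 hd⟩
    choose F hF using hex
    have hinj : ∀ d ∈ L, ∀ e ∈ L, F d = F e → d = e := by
      intro d hd e he h1
      have h2 := (hF d hd).2
      rw [h1, (hF e he).2] at h2
      exact_mod_cast h2.symm
    refine ⟨L.toFinset.image F, ?_, ?_, ?_⟩
    · rw [Finset.card_image_of_injOn fun d hd e he h1 => hinj d (List.mem_toFinset.1 hd) e (List.mem_toFinset.1 he) h1,
        List.toFinset_card_of_nodup hnd]
      exact hn
    · intro χ hχ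
      obtain ⟨d, hd, rfl⟩ := Finset.mem_image.1 hχ
      exact (hF d (List.mem_toFinset.1 hd)).1
    · intro χ hχ ψ hψ σ hσ
      obtain ⟨d, hd, rfl⟩ := Finset.mem_image.1 hχ
      obtain ⟨e, he, rfl⟩ := Finset.mem_image.1 hψ
      have h1 := hσ 1
      rw [map_one, (hF d (List.mem_toFinset.1 hd)).2, (hF e (List.mem_toFinset.1 he)).2] at h1
      have h2 : d = e := by exact_mod_cast h1.symm
      rw [h2]

end Cfsg.Agent.H404.K6
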