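import Mathlib
import Cfsg.Agent.H404.K6.CaseB
import Cfsg.Agent.H774.K0.Six
import Cfsg.Agent.H684.BlockTools
import Cfsg.Agent.H61.K6.Base

/-!
S4876, helper404: the reduction to almost simple groups.

* `CaseA p`: case A of the reduction (a minimal normal subgroup of index divisible by `p`), a theorem of helper703;
* `seven_of_rows`: `p` odd, `p² ∣ |G|` (`27 ∣ |G|` if `p = 3`), all simple groups satisfy `KRow`: `k(B₀(G)) ≥ 7`.
-/

set_option autoImplicit false
set_option linter.unusedSectionVars false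

namespace Cfsg.Agent.H404.K6

open Cfsg Subgroup Cfsg.Agent.H61.K6

universe u

/-- Case A of the reduction: no minimal normal subgroup has index divisible by `p`. -/
def CaseA (p : ℕ) : Prop :=
  ∀ (M : Ideal AlgInt), IsPModular p M → ∀ (G : Type u) [Group G] [Finite G],
    Nat.card (principalBlock M G) = 6 → pPrimeCore p G = ⊥ → p ^ 2 ∣ Nat.card G → (p = 3 → 27 ∣ Nat.card G) →
    ∀ (N : Subgroup G), N.Normal → (∀ K : Subgroup G, K.Normal → K ≤ N → K = ⊥ ∨ K = N) → N ≠ ⊥ → ¬ p ∣ N.index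

variable {p : ℕ} [hpf : Fact p.Prime] {M : Ideal AlgInt}

theorem odd_of {p : ℕ} (hp : p.Prime) (hp2 : p ≠ 2) : Odd p := hp.odd_of_ne_two hp2

theorem six_le_kB (hM : IsPModular p M) (hp2 : p ≠ 2) {G : Type u} [Group G] [Finite G] (h2 : p ^ 2 ∣ Nat.card G) :
    6 ≤ Nat.card (principalBlock M G) := by
  refine (H774.K0.six_le_card hp2 hM h2).trans ?_
  have : Finite (IrrCharacter G) := Characters.Core.finite_irr
  exact Nat.card_le_card_of_injective (fun χ => (⟨χ.1, χ.2.1⟩ : principalBlock M G))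
    fun a b h => Subtype.ext (congrArg (fun x : principalBlock M G => (x : IrrCharacter G)) h)

/-- `|P| ≥ 25` -/
theorem sylow_ge (hp2 : p ≠ 2) {G : Type u} [Group G] [Finite G] (h2 : p ^ 2 ∣ Nat.card G)
    (h3 : p = 3 → 27 ∣ Nat.card G) (P : Sylow p G) : 25 ≤ Nat.card P := by
  by_cases hp3 : p = 3
  · subst hp3
    have h4 : 3 ^ 3 ∣ Nat.card P := P.pow_dvd_card_of_pow_dvd_card (h3 rfl)
    have := Nat.le_of_dvd Nat.card_pos h4
    omega
  · have h5 : 5 ≤ p := by
      have h6 := hpf.out.two_le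
      by_contra hcon
      have h7 : p = 4 := by omega
      rw [h7] at hpf
      exact absurd hpf.out (by norm_num)
    have h4 : p ^ 2 ∣ Nat.card P := P.pow_dvd_card_of_pow_dvd_card h2
    have h6 := Nat.le_of_dvd Nat.card_pos h4
    nlinarith

/-- The almost simple conclusion. -/
theorem almost_simple (hp2 : p ≠ 2) (hM : IsPModular p M) (hA : CaseA.{u} p) {G : Type u} [Group G] [Finite G]
    (hk : Nat.card (principalBlock M G) = 6) (hcore : pPrimeCore p G = ⊥) (h2 : p ^ 2 ∣ Nat.card G)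
    (h3 : p = 3 → 27 ∣ Nat.card G) :
    ∃ S : Subgroup G, S.Normal ∧ IsSimpleGroup S ∧ (¬ ∀ x y : S, Commute x y) ∧
      centralizer (S : Set G) = ⊥ ∧ ¬ p ∣ S.index := by
  have hnt : Nontrivial G := by
    rw [← Finite.one_lt_card_iff_nontrivial]
    exact hpf.out.one_lt.trans_le (Nat.le_of_dvd Nat.card_pos ((dvd_pow_self p two_ne_zero).trans h2))
  obtain ⟨N, hNn, hN, hmin⟩ := Lib.SubnormalJoin.exists_minimal_normal G
  have hcop := hA M hM G hk hcore h2 h3 N hNn hmin hN
  obtain ⟨h4, h5, h6⟩ := case_b hM (hpf.out.odd_of_ne_two hp2) hk hcore N hmin hN hcop (sylow_ge hp2 h2 h3)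
  exact ⟨N, hNn, h4, h5, h6, hcop⟩

/-- **REDUCTION.** -/
theorem seven_of_rows (hp2 : p ≠ 2) (hM : IsPModular p M) (hA : CaseA.{u} p)
    (hrows : ∀ (S : Type u) [Group S] [Finite S], IsSimpleGroup S → (¬ ∀ x y : S, Commute x y) →
      p ^ 2 ∣ Nat.card S → (p = 3 → 27 ∣ Nat.card S) → KRow.{u, u} p S)
    (G : Type u) [Group G] [Finite G] (h2 : p ^ 2 ∣ Nat.card G) (h3 : p = 3 → 27 ∣ Nat.card G) :
    7 ≤ Nat.card (principalBlock M G) := by
  obtain ⟨n, hn⟩ : ∃ n, Nat.card G = n := ⟨_, rfl⟩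
  induction n using Nat.strong_induction_on generalizing G with
  | _ n ih =>
  subst hn
  by_contra hcon
  have hk : Nat.card (principalBlock M G) = 6 := by
    have := six_le_kB hM hp2 h2
    omega
  have hdvd : ∀ (K : Subgroup G) (m : ℕ), ¬ p ∣ Nat.card K → p ^ m ∣ Nat.card G → p ^ m ∣ K.index := by
    intro K m hK hm
    rw [← K.card_mul_index] at hm
    exact (Nat.Coprime.pow_left m ((Nat.Prime.coprime_iff_not_dvd hpf.out).2 hK)).dvd_of_dvd_mul_left hm
  have hcore : pPrimeCore p G = ⊥ := by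
    by_contra hne
    have hKn : (pPrimeCore p G).Normal := Lib.Cores.pPrimeCore_normal p
    have hKp : ¬ p ∣ Nat.card (pPrimeCore p G) :=
      (Nat.Prime.coprime_iff_not_dvd hpf.out).1 (Lib.Cores.pPrimeCore_coprime p).symm
    have h1 : Nat.card (G ⧸ pPrimeCore p G) < Nat.card G := by
      rw [← index_eq_card, ← (pPrimeCore p G).card_mul_index]
      have h2 : 1 < Nat.card (pPrimeCore p G) := (one_lt_card_iff_ne_bot _).2 hne
      have h3 : 0 < (pPrimeCore p G).index := Nat.pos_of_ne_zero (pPrimeCore p G).index_ne_zero_of_finite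
      nlinarith
    have h4 := ih _ h1 (G ⧸ pPrimeCore p G) (by rw [← index_eq_card]; exact hdvd _ 2 hKp h2)
      (by
        intro h5
        rw [← index_eq_card]
        have h6 := hdvd (pPrimeCore p G) 3 hKp (by rw [h5]; exact h3 h5)
        rw [h5] at h6 ⊢
        exact h6) rfl
    have h5 := H684.BlockTools.card_le_of_surjective hM (QuotientGroup.mk' (pPrimeCore p G))
      (QuotientGroup.mk'_surjective _)
    omega
  obtain ⟨S, hSn, hS, hna, hC, hidx⟩ := almost_simple hp2 hM hA hk hcore h2 h3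
  have hdS : ∀ m : ℕ, p ^ m ∣ Nat.card G → p ^ m ∣ Nat.card S := by
    intro m hm
    rw [← S.card_mul_index] at hm
    exact (Nat.Coprime.pow_left m ((Nat.Prime.coprime_iff_not_dvd hpf.out).2 hidx)).dvd_of_dvd_mul_right hm
  have hrow := hrows S hS hna (hdS 2 h2) (by
    intro h5
    have h6 := hdS 3 (by rw [h5]; exact h3 h5)
    rw [h5] at h6
    exact h6)
  exact hcon (hrow M G S ⟨hM, hSn, ⟨MulEquiv.refl _⟩, hC, hidx⟩)

end Cfsg.Agent.H404.K6
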