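import Mathlib
import Cfsg.Agent.H561.Eight.Blk
import Cfsg.Agent.H703.Lat.Basic

/-!
S4876, helper404: values of the characters at elements of prime order `q` with self-centralizing Sylow `q`-subgroup, for
the congruences `∑_{χ ∈ B₀(p)} χ(1) χ(x) ≡ 0 mod |G|_p` (`H703.Lat.theta_dvd`).
-/

set_option autoImplicit false
set_option linter.unusedSectionVars false

namespace Cfsg.Agent.H404.K6.Sieve

open Subgroup Cfsg Cfsg.Agent.SmallSimple.DegreeData Cfsg.Agent.Characters.Core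

universe u

variable {G : Type u} [Group G] [Finite G] {q : ℕ} [hq : Fact q.Prime] {M : Ideal AlgInt} {P : Sylow q G} {e t : ℕ}

/-- The values of a character outside the exceptional ones. -/
theorem type (D : BlockData q M P e t) (hM : IsPModular q M) (hP : Nat.card P = q)
    (hC : centralizer ((P : Subgroup G) : Set G) = (P : Subgroup G)) {χ : IrrCharacter G} (hX : χ ∉ D.X) :
    ∃ ε : ℤ, (ε = 0 ∨ ε = 1 ∨ ε = -1) ∧ (charDegree (χ : G → ℂ) : ℤ) ≡ ε [ZMOD q] ∧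
      ∀ x ∈ P, x ≠ 1 → (χ : G → ℂ) x = ε := by
  by_cases h : χ ∈ principalBlock M G
  · rcases (D.mem_block χ).1 h with h1 | h1
    · refine ⟨D.ε χ, Or.inr (D.ε_mem χ h1), ?_, fun x hx hx1 => D.val' h1 hx hx1⟩
      have h2 := D.sd_modEq hP h1
      unfold BlockData.sd at h2
      have h3 := h2.mul_left (D.ε χ)
      rcases D.ε_mem χ h1 with h4 | h4 <;> rw [h4] at h3 ⊢ <;> simpa using h3
    · exact absurd h1 hX
  · refine ⟨0, Or.inl rfl, ?_, fun x hx hx1 => ?_⟩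
    · exact (Int.modEq_zero_iff_dvd).2 (Int.natCast_dvd_natCast.2 (D.dvd_degree hM hP hC h))
    · rw [D.vanish hM hP hC h hx hx1]
      simp

theorem modEq_X (D : BlockData q M P e t) (hP : Nat.card P = q) {Θ : IrrCharacter G} (hΘ : Θ ∈ D.X) :
    (charDegree (Θ : G → ℂ) : ℤ) ≡ D.d * e [ZMOD q] := by
  have h1 := exc_modEq (P := (P : Subgroup G)) hP D.d_mem (D.card_S Θ hΘ) (D.one_notMem_S Θ hΘ)
    (fun x hx => D.val_X' hΘ x hx)
  have h3 := h1.mul_left D.d
  rcases D.d_mem with h4 | h4 <;> rw [h4] at h3 ⊢ <;> simpa using h3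

theorem sum_lin {P : Type*} [Group P] [Fintype P] [DecidableEq P] {l : P →* ℂˣ} (hl : l ≠ 1) :
    ∑ x ∈ Finset.univ.erase (1 : P), ((l x : ℂˣ) : ℂ) = -1 := by
  classical
  have h1 := sum_hom_units_eq_zero ((Units.coeHom ℂ).comp l) (by
    intro h
    apply hl
    ext x
    have h2 := DFunLike.congr_fun h x
    simpa using h2)
  have h2 := Finset.add_sum_erase Finset.univ (fun x : P => ((l x : ℂˣ) : ℂ)) (Finset.mem_univ 1)
  simp only [map_one, Units.val_one] at h2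
  have h3 : ∑ x : P, ((l x : ℂˣ) : ℂ) = 0 := h1
  rw [h3] at h2
  linear_combination h2

theorem sum_X (D : BlockData q M P e t) [Fintype P] [DecidableEq P] {Θ : IrrCharacter G} (hΘ : Θ ∈ D.X) :
    ∑ x ∈ Finset.univ.erase (1 : P), (Θ : G → ℂ) x = -(D.d * e) := by
  have h1 : ∑ x ∈ Finset.univ.erase (1 : P), (Θ : G → ℂ) x =
      ∑ x ∈ Finset.univ.erase (1 : P), D.d * ∑ l ∈ D.S Θ, ((l x : ℂˣ) : ℂ) :=
    Finset.sum_congr rfl fun x hx => D.val_X' hΘ x (Finset.ne_of_mem_erase hx)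
  have h2 : ∀ l ∈ D.S Θ, ∑ x ∈ Finset.univ.erase (1 : P), ((l x : ℂˣ) : ℂ) = -1 := fun l hl =>
    sum_lin (fun h => D.one_notMem_S Θ hΘ (h ▸ hl))
  rw [h1, ← Finset.mul_sum, Finset.sum_comm]
  rw [Finset.sum_congr rfl h2, Finset.sum_const, D.card_S Θ hΘ]
  simp

theorem sum_X_inv (D : BlockData q M P e t) [Fintype P] [DecidableEq P] {Θ : IrrCharacter G} (hΘ : Θ ∈ D.X) :
    ∑ x ∈ Finset.univ.erase (1 : P), (Θ : G → ℂ) ((x⁻¹ : P) : G) = -(D.d * e) := by
  rw [← sum_X D hΘ]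
  refine Finset.sum_nbij' (fun x => x⁻¹) (fun x => x⁻¹) ?_ ?_ ?_ ?_ ?_
  · intro x hx
    exact Finset.mem_erase.2 ⟨inv_ne_one.2 (Finset.ne_of_mem_erase hx), Finset.mem_univ _⟩
  · intro x hx
    exact Finset.mem_erase.2 ⟨inv_ne_one.2 (Finset.ne_of_mem_erase hx), Finset.mem_univ _⟩
  · intro x _
    exact inv_inv x
  · intro x _
    exact inv_inv x
  · intro x _
    rfl

theorem sum_sq_X (D : BlockData q M P e t) (hP : Nat.card P = q) [Fintype P] [DecidableEq P] {Θ : IrrCharacter G}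
    (hΘ : Θ ∈ D.X) :
    ∑ x ∈ Finset.univ.erase (1 : P), (Θ : G → ℂ) x * (Θ : G → ℂ) ((x⁻¹ : P) : G) = e * (q - e) := by
  classical
  have h1 : ∑ x ∈ Finset.univ.erase (1 : P), (Θ : G → ℂ) x * (Θ : G → ℂ) ((x⁻¹ : P) : G) =
      ∑ x ∈ Finset.univ.erase (1 : P), ∑ l ∈ D.S Θ, ∑ m ∈ D.S Θ, (((l * m⁻¹) x : ℂˣ) : ℂ) := by
    refine Finset.sum_congr rfl fun x hx => ?_
    have hx1 := Finset.ne_of_mem_erase hx
    rw [D.val_X' hΘ x hx1, D.val_X' hΘ x⁻¹ (inv_ne_one.2 hx1)]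
    have hdd : (D.d : ℂ) * D.d = 1 := by
      rcases D.d_mem with h | h <;> rw [h] <;> simp
    have h2 : (∑ l ∈ D.S Θ, ((l x : ℂˣ) : ℂ)) * (∑ m ∈ D.S Θ, ((m x⁻¹ : ℂˣ) : ℂ)) =
        ∑ l ∈ D.S Θ, ∑ m ∈ D.S Θ, (((l * m⁻¹) x : ℂˣ) : ℂ) := by
      rw [Finset.sum_mul_sum]
      refine Finset.sum_congr rfl fun l _ => Finset.sum_congr rfl fun m _ => ?_
      rw [MonoidHom.mul_apply, MonoidHom.inv_apply, Units.val_mul, map_inv]
    rw [← h2]
    linear_combination ((∑ l ∈ D.S Θ, ((l x : ℂˣ) : ℂ)) * (∑ m ∈ D.S Θ, ((m x⁻¹ : ℂˣ) : ℂ))) * hdd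
  rw [h1, Finset.sum_comm]
  have h2 : ∀ l ∈ D.S Θ, ∑ x ∈ Finset.univ.erase (1 : P), ∑ m ∈ D.S Θ, (((l * m⁻¹) x : ℂˣ) : ℂ) = (q - e : ℂ) := by
    intro l hl
    rw [Finset.sum_comm, ← Finset.add_sum_erase _ _ hl]
    have h3 : ∑ x ∈ Finset.univ.erase (1 : P), (((l * l⁻¹) x : ℂˣ) : ℂ) = q - 1 := by
      have h4 : ∀ x : P, (((l * l⁻¹) x : ℂˣ) : ℂ) = 1 := fun x => by
        rw [MonoidHom.mul_apply, MonoidHom.inv_apply, mul_inv_cancel, Units.val_one]
      simp only [h4, Finset.sum_const, nsmul_eq_mul, mul_one]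
      rw [Finset.card_erase_of_mem (Finset.mem_univ _), Finset.card_univ, ← Nat.card_eq_fintype_card,
        show Nat.card (↥P) = q from hP, Nat.cast_sub hq.out.one_lt.le, Nat.cast_one]
    have h5 : ∀ m ∈ (D.S Θ).erase l, ∑ x ∈ Finset.univ.erase (1 : P), (((l * m⁻¹) x : ℂˣ) : ℂ) = -1 := by
      intro m hm
      refine sum_lin fun h => Finset.ne_of_mem_erase hm ?_
      refine MonoidHom.ext fun x => ?_
      have h6 := DFunLike.congr_fun h x
      rw [MonoidHom.mul_apply, MonoidHom.inv_apply, MonoidHom.one_apply] at h6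
      exact (mul_inv_eq_one.1 h6).symm
    rw [h3, Finset.sum_congr rfl h5, Finset.sum_const, Finset.card_erase_of_mem hl, D.card_S Θ hΘ]
    have he : 1 ≤ e := by rw [← D.card_S Θ hΘ]; exact Finset.card_pos.2 ⟨l, hl⟩
    rw [nsmul_eq_mul, Nat.cast_sub he, Nat.cast_one]
    ring
  rw [Finset.sum_congr rfl h2, Finset.sum_const, D.card_S Θ hΘ, nsmul_eq_mul]

theorem centralizer_eq (hP : Nat.card P = q) (hC : Nat.card (centralizer ((P : Subgroup G) : Set G)) = q) :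
    centralizer ((P : Subgroup G) : Set G) = (P : Subgroup G) := by
  symm
  refine Subgroup.eq_of_le_of_card_ge ?_ (by rw [hC]; exact hP.symm.le)
  have : IsCyclic P := isCyclic_of_prime_card hP
  intro x hx
  rw [mem_centralizer_iff]
  intro y hy
  have h1 : IsMulCommutative P := IsCyclic.isMulCommutative
  have h2 := h1.is_comm.comm (⟨y, hy⟩ : P) ⟨x, hx⟩
  exact congrArg Subtype.val h2

/-- The block data at an element of prime order with centralizer of prime order. -/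
theorem exists_data (hq2 : q ≠ 2) {w : G} (hw : orderOf w = q) (hc : Nat.card (centralizer ({w} : Set G)) = q)
    (hqq : ¬ q ^ 2 ∣ Nat.card G) {e t : ℕ} (ht : e * t = q - 1) (he : Nat.card G / q % q = e) :
    ∃ (M : Ideal AlgInt) (P : Sylow q G), IsPModular q M ∧ Nat.card P = q ∧
      centralizer ((P : Subgroup G) : Set G) = (P : Subgroup G) ∧ Nonempty (BlockData q M P e t) := by
  have h1 : zpowers w = centralizer ({w} : Set G) := by
    refine Subgroup.eq_of_le_of_card_ge ?_ (by rw [hc, Nat.card_zpowers, hw])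
    rw [zpowers_le, mem_centralizer_singleton_iff]
  obtain ⟨M, P, hM, hP, hC, hD⟩ := H561.Eight.exists_blk hq2 ⟨zpowers w, by rw [Nat.card_zpowers, hw], by
    apply le_antisymm
    · rw [h1]
      exact centralizer_le (Set.singleton_subset_iff.2 (h1 ▸ mem_zpowers w))
    · intro x hx
      rw [mem_centralizer_iff]
      intro y hy
      obtain ⟨i, rfl⟩ := mem_zpowers_iff.1 hx
      obtain ⟨j, rfl⟩ := mem_zpowers_iff.1 hy
      exact ((Commute.refl w).zpow_zpow j i).eq⟩ hqq ht he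
  exact ⟨M, P, hM, hP, centralizer_eq hP hC, hD⟩

theorem card_B0 {M : Ideal AlgInt} :
    Nat.card (principalBlock M G) = (H703.Lat.B0 M G).card := by
  have h1 : (principalBlock M G : Set (IrrCharacter G)) = ((H703.Lat.B0 M G : Finset (IrrCharacter G)) : Set _) := by
    ext χ
    rw [Finset.mem_coe, H703.Lat.mem_B0]
  rw [Nat.card_coe_set_eq, h1, Set.ncard_coe_finset]

end Cfsg.Agent.H404.K6.Sieve
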