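import Mathlib
import Cfsg.Agent.H404.K6.Sieve
import Cfsg.Agent.H404.K6.Red
import Cfsg.Prelude.Def_BlockRank

/-!
S4876, helper404: `l(B₀) = 2`: the members of `B₀` are `a + b χ` on the `p`-regular elements; values at elements of
prime order `q` with self-centralizing Sylow `q`-subgroup (`e = q - 1`, and exceptional characters are not constant).
-/

set_option autoImplicit false
set_option linter.unusedSectionVars false

namespace Cfsg.Agent.H404.K6.RankTwo

open Subgroup Cfsg Cfsg.Agent.SmallSimple.DegreeData Cfsg.Agent.Characters.Core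
open scoped ComplexConjugate

universe u

/-- **Rank two.** -/
theorem exists_comb {G : Type u} [Group G] [Finite G] {p : ℕ} {B : Set (IrrCharacter G)}
    (hr : blockRank p B ≤ 2) {one χ : IrrCharacter G} (h1 : one ∈ B) (ho : ∀ g, (one : G → ℂ) g = 1) (hχ : χ ∈ B)
    {g0 : G} (hg0 : IsPRegular p g0) (hg1 : IsPRegular p (1 : G)) (hne : (χ : G → ℂ) g0 ≠ (χ : G → ℂ) 1)
    {ψ : IrrCharacter G} (hψ : ψ ∈ B) :
    ∃ a b : ℂ, ∀ g, IsPRegular p g → (ψ : G → ℂ) g = a + b * (χ : G → ℂ) g := by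
  classical
  have hfin : Finite (IrrCharacter G) := finite_irr
  obtain ⟨V, hV⟩ : ∃ V : Submodule ℂ (G → ℂ), V = Submodule.span ℂ
    ((fun χ : IrrCharacter G => pRegularPart p (χ : G → ℂ)) '' B) := ⟨_, rfl⟩
  have hVf : Module.Finite ℂ V := by
    rw [hV]
    exact FiniteDimensional.span_of_finite ℂ (Set.toFinite _)
  have hr' : Module.finrank ℂ V ≤ 2 := by rw [hV]; exact hr
  have hmem : ∀ φ ∈ B, pRegularPart p (φ : G → ℂ) ∈ V := fun φ hφ => by
    rw [hV]
    exact Submodule.subset_span ⟨φ, hφ, rfl⟩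
  have hval : ∀ (f : G → ℂ) (g : G), IsPRegular p g → pRegularPart p f g = f g := fun f g hg => by
    unfold pRegularPart
    rw [if_pos hg]
  have hli : LinearIndependent ℂ ![pRegularPart p (one : G → ℂ), pRegularPart p (χ : G → ℂ)] := by
    rw [LinearIndependent.pair_iff]
    intro s t hst
    have e1 := congrFun hst 1
    have e2 := congrFun hst g0
    simp only [Pi.add_apply, Pi.smul_apply, smul_eq_mul, Pi.zero_apply, hval _ _ hg0, hval _ _ hg1, ho] at e1 e2
    have ht : t = 0 := by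
      have h3 : t * ((χ : G → ℂ) g0 - (χ : G → ℂ) 1) = 0 := by linear_combination e2 - e1
      rcases mul_eq_zero.1 h3 with h | h
      · exact h
      · exact absurd (sub_eq_zero.1 h) hne
    refine ⟨?_, ht⟩
    rw [ht] at e1
    linear_combination e1
  have hle : Submodule.span ℂ (Set.range ![pRegularPart p (one : G → ℂ), pRegularPart p (χ : G → ℂ)]) ≤ V := by
    rw [Submodule.span_le]
    rintro _ ⟨i, rfl⟩
    fin_cases i
    · exact hmem one h1
    · exact hmem χ hχ
  have heq := Submodule.eq_of_le_of_finrank_le hle (by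
    rw [finrank_span_eq_card hli]
    simpa using hr')
  have h2 := hmem ψ hψ
  rw [← heq] at h2
  rw [Matrix.range_cons, Matrix.range_cons, Matrix.range_empty, Set.union_empty, Set.singleton_union,
    Submodule.mem_span_pair] at h2
  obtain ⟨a, b, hab⟩ := h2
  refine ⟨a, b, fun g hg => ?_⟩
  have h3 := congrFun hab g
  simp only [Pi.add_apply, Pi.smul_apply, smul_eq_mul, hval _ _ hg, ho] at h3
  rw [← h3]
  ring

variable {G : Type u} [Group G] [Finite G] {q : ℕ} [hq : Fact q.Prime] {M : Ideal AlgInt} {P : Sylow q G} {e t : ℕ}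

/-- An exceptional character is not constant on `P \ 1` if `t ≥ 2`. -/
theorem not_const (D : BlockData q M P e t) (hP : Nat.card P = q) (ht : e * t = q - 1) (ht2 : 2 ≤ t)
    {Θ : IrrCharacter G} (hΘ : Θ ∈ D.X) (c : ℂ) : ¬ ∀ x : P, x ≠ 1 → (Θ : G → ℂ) x = c := by
  classical
  intro hc
  have := Fintype.ofFinite P
  have hcE : ((Finset.univ.erase (1 : P)).card : ℂ) = q - 1 := by
    rw [Finset.card_erase_of_mem (Finset.mem_univ _), Finset.card_univ, ← Nat.card_eq_fintype_card,
      show Nat.card (↥P) = q from hP, Nat.cast_sub hq.out.one_lt.le, Nat.cast_one]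
  have e1 := Sieve.sum_X D hΘ
  have e3 := Sieve.sum_sq_X D hP hΘ
  rw [Finset.sum_congr rfl fun x hx => hc x (Finset.ne_of_mem_erase hx), Finset.sum_const, nsmul_eq_mul, hcE] at e1
  rw [Finset.sum_congr rfl fun x hx => by
    rw [hc x (Finset.ne_of_mem_erase hx), hc x⁻¹ (inv_ne_one.2 (Finset.ne_of_mem_erase hx))], Finset.sum_const,
    nsmul_eq_mul, hcE] at e3
  have hdd : (D.d : ℂ) * D.d = 1 := by
    rcases D.d_mem with h | h <;> rw [h] <;> simp
  have h1 : ((e : ℂ)) * e = (q - 1) * (e * (q - e)) := by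
    linear_combination (q - 1 : ℂ) * e3 - ((q - 1) * c - D.d * e) * e1 - ((e : ℂ) * e) * hdd
  have hq1 := hq.out.one_lt
  have he1 : 1 ≤ e := by
    rcases Nat.eq_zero_or_pos e with h | h
    · rw [h] at ht; omega
    · exact h
  have heq : e < q := by
    by_contra h
    have h2 : q * 1 ≤ e * t := Nat.mul_le_mul (by omega) (by omega)
    omega
  have h2 : e * e = (q - 1) * (e * (q - e)) := by
    have h3 : ((e * e : ℕ) : ℂ) = (((q - 1) * (e * (q - e)) : ℕ) : ℂ) := by
      push_cast [Nat.cast_sub hq1.le, Nat.cast_sub heq.le]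
      exact h1
    exact_mod_cast h3
  have h3 : e * e = e * ((q - 1) * (q - e)) := by rw [h2]; ring
  have h4 : e = (q - 1) * (q - e) := Nat.eq_of_mul_eq_mul_left he1 h3
  have h5 : e * 2 ≤ q - 1 := by rw [← ht]; exact Nat.mul_le_mul_left _ ht2
  have h6 : (q - 1) * 1 ≤ (q - 1) * (q - e) := Nat.mul_le_mul_left _ (by omega)
  omega

/-- If `e = q - 1` the exceptional character is constant. -/
theorem const_one (D : BlockData q M P e t) (hP : Nat.card P = q) (he : e + 1 = q)
    {Θ : IrrCharacter G} (hΘ : Θ ∈ D.X) : ∀ x ∈ P, x ≠ 1 → (Θ : G → ℂ) x = -D.d := by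
  classical
  have := Fintype.ofFinite P
  have hcE : ((Finset.univ.erase (1 : P)).card : ℂ) = e := by
    rw [Finset.card_erase_of_mem (Finset.mem_univ _), Finset.card_univ, ← Nat.card_eq_fintype_card,
      show Nat.card (↥P) = q from hP, ← he]
    simp
  have e1 := Sieve.sum_X D hΘ
  have e2 := Sieve.sum_X_inv D hΘ
  have e3 := Sieve.sum_sq_X D hP hΘ
  have hdd : (D.d : ℂ) * D.d = 1 := by
    rcases D.d_mem with h | h <;> rw [h] <;> simp
  have hinv : ∀ x : P, (Θ : G → ℂ) ((x⁻¹ : P) : G) = conj ((Θ : G → ℂ) x) := fun x => by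
    rw [show ((x⁻¹ : P) : G) = (x : G)⁻¹ from rfl]
    exact isCharacter_apply_inv (isIrr_isCharacter Θ.2) _
  have hsum : ∑ x ∈ Finset.univ.erase (1 : P), (((Θ : G → ℂ) x + D.d) * ((Θ : G → ℂ) ((x⁻¹ : P) : G) + D.d)) = 0 := by
    have h1 : ∀ x : P, ((Θ : G → ℂ) x + D.d) * ((Θ : G → ℂ) ((x⁻¹ : P) : G) + D.d) =
        (Θ : G → ℂ) x * (Θ : G → ℂ) ((x⁻¹ : P) : G) + (D.d * (Θ : G → ℂ) x + D.d * (Θ : G → ℂ) ((x⁻¹ : P) : G)) +
          D.d * D.d := fun x => by ring
    rw [Finset.sum_congr rfl fun x _ => h1 x, Finset.sum_add_distrib, Finset.sum_add_distrib,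
      Finset.sum_add_distrib, ← Finset.mul_sum, ← Finset.mul_sum, e1, e2, e3, Finset.sum_const, nsmul_eq_mul, hcE]
    have hqe : (q : ℂ) = e + 1 := by
      rw [← he]
      push_cast
      ring
    rw [hqe]
    linear_combination (-(e : ℂ)) * hdd
  have hns : ∑ x ∈ Finset.univ.erase (1 : P), Complex.normSq ((Θ : G → ℂ) x + D.d) = 0 := by
    have h1 : ((∑ x ∈ Finset.univ.erase (1 : P), Complex.normSq ((Θ : G → ℂ) x + D.d) : ℝ) : ℂ) = 0 := by
      rw [← hsum]
      push_cast
      refine Finset.sum_congr rfl fun x _ => ?_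
      rw [← Complex.mul_conj, map_add, isCharacter_apply_inv (isIrr_isCharacter Θ.2), map_intCast]
    exact_mod_cast h1
  intro x hx hx1
  have h1 := (Finset.sum_eq_zero_iff_of_nonneg (fun x _ => Complex.normSq_nonneg _)).1 hns ⟨x, hx⟩
    (Finset.mem_erase.2 ⟨fun h => hx1 (congrArg Subtype.val h), Finset.mem_univ _⟩)
  have h2 := Complex.normSq_eq_zero.1 h1
  linear_combination h2

/-- **Values when `e = q - 1`.** -/
theorem type_one (D : BlockData q M P e t) (hM : IsPModular q M) (hP : Nat.card P = q)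
    (hC : centralizer ((P : Subgroup G) : Set G) = (P : Subgroup G)) (he : e + 1 = q) (χ : IrrCharacter G) :
    ∃ ε : ℤ, (ε = 0 ∨ ε = 1 ∨ ε = -1) ∧ (charDegree (χ : G → ℂ) : ℤ) ≡ ε [ZMOD q] ∧
      ∀ x ∈ P, x ≠ 1 → (χ : G → ℂ) x = ε := by
  by_cases hX : χ ∈ D.X
  · refine ⟨-D.d, ?_, ?_, fun x hx hx1 => ?_⟩
    · rcases D.d_mem with h | h <;> rw [h] <;> simp
    · refine (Sieve.modEq_X D hP hX).trans ?_
      refine (Int.modEq_iff_dvd.2 ⟨-D.d, ?_⟩)
      have h1 : (q : ℤ) = e + 1 := by rw [← he]; push_cast; ring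
      rw [h1]
      ring
    · rw [const_one D hP he hX x hx hx1]
      push_cast
      ring
  · exact Sieve.type D hM hP hC hX

end Cfsg.Agent.H404.K6.RankTwo
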