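import Mathlib
import Cfsg.Agent.H404.K6.CritT
import Cfsg.Agent.H436.HeFive

/-!
S4876, helper404: the Held group, `p = 5`: `C(P)` is a 5-group.
-/

set_option autoImplicit false
set_option maxRecDepth 100000

namespace Cfsg.Agent.H404.K6.He

open Subgroup Cfsg
open Cfsg.Spor.He (Gen)
open Cfsg.Agent.SporadicB.HePerm Cfsg.Agent.FixBN.HeStab Cfsg.Agent.KFacts.He.Lv Cfsg.Agent.CpAutHe.Cnt
  Cfsg.Agent.CpAutHe.Bound Cfsg.Agent.H436.HeFive

/-- the tests for the images of the point `27` under the centralizer of the Sylow subgroup -/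
def TP (y : ℕ) : Bool := and (tst X [] [1, 2] 27 y) (and (tst Y [] [1] 27 y) (tst (pw X 2 ++ Y) [] [1] 27 y))

theorem cP : cnt 2058 TP = 25 := by decide +kernel

/-- the tests relative to fixed points -/
def sh (F ks : List ℕ) (p y : ℕ) : Bool := and (tst X [] ks p y) (tst X F [] p y)

theorem e1 : cnt 2058 (sh [1087, 29, 1726, 1680] [1, 2] 1) = 1 := by decide +kernel
theorem e8 : cnt 2058 (sh [176, 1605, 1726, 1313, 1680] [1, 2] 8) = 1 := by decide +kernel
theorem e32 : cnt 2058 (sh [510, 1605, 1087, 708, 1726, 1680] [1, 2] 32) = 1 := by decide +kernel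
theorem e0 : cnt 2058 (sh [1, 8, 32] [1] 0) = 1 := by decide +kernel

theorem fix_of_sh {c : Cfsg.Spor.He} (hc : c * wd X = wd X * c) {F : List ℕ} (hF : ∀ f ∈ F, Fx c f) (p : Fin 2058)
    (ks : List ℕ) (hn : cnt 2058 (sh F ks p) = 1) : phi c p = p := by
  rw [← card_filter, Finset.card_eq_one] at hn
  obtain ⟨a, ha⟩ := hn
  have h0 : ∀ q : Fin 2058, sh F ks p q = true → (q : ℕ) = a := by
    intro q hq
    have h2 : (q : ℕ) ∈ (Finset.range 2058).filter (fun y => sh F ks p y = true) := by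
      rw [Finset.mem_filter, Finset.mem_range]
      exact ⟨q.2, hq⟩
    rw [ha, Finset.mem_singleton] at h2
    exact h2
  have h1 : sh F ks p (phi c p) = true := by
    unfold sh
    rw [Bool.and_eq_true]
    exact ⟨tst_spec hc (F := []) (fun f hf => absurd hf List.not_mem_nil) (List.Subset.refl _) ks p,
      tst_spec hc hF (List.Subset.refl _) [] p⟩
  have h2 : sh F ks p p = true := by
    unfold sh tst
    simp
  exact Fin.ext ((h0 _ h1).trans (h0 _ h2).symm)

theorem fx_act {c : Cfsg.Spor.He} {w : List Gen} (hc : c * wd w = wd w * c) {p : Fin 2058} (hp : phi c p = p) {q : ℕ}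
    (hq : Nat.beq (act w p) q = true) : Fx c q := by
  have h0 : act w p = q := Nat.eq_of_beq_eq_true hq
  have h1 : ((phi (wd w) p : Fin 2058) : ℕ) = q := by rw [← h0, act_eq]
  refine ⟨by rw [← h1]; exact (phi (wd w) p).2, ?_⟩
  have h2 : (⟨q, by rw [← h1]; exact (phi (wd w) p).2⟩ : Fin 2058) = phi (wd w) p := Fin.ext h1.symm
  rw [h2, ← Equiv.Perm.mul_apply, ← map_mul, hc, map_mul, Equiv.Perm.mul_apply, hp]

theorem comm_pw {c : Cfsg.Spor.He} (hX : c * wd X = wd X * c) (hY : c * wd Y = wd Y * c) (i j : ℕ) :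
    c * wd (pw X i ++ pw Y j) = wd (pw X i ++ pw Y j) * c := by
  rw [wd_append, wd_pw, wd_pw]
  exact (((show Commute c (wd X) from hX).pow_right i).mul_right ((show Commute c (wd Y) from hY).pow_right j)).eq

/-- the centralizer of `X` and `Y` -/
noncomputable def CE : Subgroup Cfsg.Spor.He := centralizer ({wd X} : Set Cfsg.Spor.He) ⊓ centralizer ({wd Y} : Set Cfsg.Spor.He)

theorem mem_CE {c : Cfsg.Spor.He} : c ∈ CE ↔ c * wd X = wd X * c ∧ c * wd Y = wd Y * c := by
  unfold CE
  rw [Subgroup.mem_inf, mem_centralizer_singleton_iff, mem_centralizer_singleton_iff]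

theorem st_le : Nat.card ↥(st CE 27) ≤ 1 := by
  rw [Subgroup.card_le_one_iff_eq_bot, eq_bot_iff_forall]
  intro c hc
  obtain ⟨hc1, hp⟩ := mem_st.1 hc
  obtain ⟨hX, hY⟩ := mem_CE.1 hc1
  have hw := comm_pw hX hY
  have f : ∀ {q : ℕ} (i j : ℕ), Nat.beq (act (pw X i ++ pw Y j) 27) q = true → Fx c q := fun i j h =>
    fx_act (p := 27) (hw i j) hp h
  have k1087 : Fx c 1087 := f 3 3 (by decide +kernel)
  have k29 : Fx c 29 := f 4 0 (by decide +kernel)
  have k1726 : Fx c 1726 := f 4 1 (by decide +kernel)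
  have k1680 : Fx c 1680 := f 4 4 (by decide +kernel)
  have k176 : Fx c 176 := f 3 0 (by decide +kernel)
  have k1605 : Fx c 1605 := f 3 2 (by decide +kernel)
  have k1313 : Fx c 1313 := f 4 3 (by decide +kernel)
  have k510 : Fx c 510 := f 2 4 (by decide +kernel)
  have k708 : Fx c 708 := f 3 4 (by decide +kernel)
  have g1 : phi c 1 = 1 := fix_of_sh hX (by
    intro q hq
    simp only [List.mem_cons, List.not_mem_nil, or_false] at hq
    rcases hq with rfl | rfl | rfl | rfl <;> assumption) 1 _ e1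
  have g8 : phi c 8 = 8 := fix_of_sh hX (by
    intro q hq
    simp only [List.mem_cons, List.not_mem_nil, or_false] at hq
    rcases hq with rfl | rfl | rfl | rfl | rfl <;> assumption) 8 _ e8
  have g32 : phi c 32 = 32 := fix_of_sh hX (by
    intro q hq
    simp only [List.mem_cons, List.not_mem_nil, or_false] at hq
    rcases hq with rfl | rfl | rfl | rfl | rfl | rfl <;> assumption) 32 _ e32
  have g0 : phi c 0 = 0 := fix_of_sh hX (by
    intro q hq
    simp only [List.mem_cons, List.not_mem_nil, or_false] at hq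
    rcases hq with rfl | rfl | rfl
    · exact ⟨by norm_num, g1⟩
    · exact ⟨by norm_num, g8⟩
    · exact ⟨by norm_num, g32⟩) 0 _ e0
  have e : ∀ i, phi (1 : Cfsg.Spor.He) i = i := fun i => by rw [map_one]; rfl
  apply eq_of_base
  · rw [g0, e]
  · rw [g1, e]
  · rw [g32, e]
  · rw [g8, e]

theorem card_CE_le : Nat.card ↥CE ≤ 25 := by
  have h1 := orb CE 27 ((Finset.range 2058).filter (fun y => TP y = true)) (fun c hc => by
    obtain ⟨hX, hY⟩ := mem_CE.1 hc
    rw [Finset.mem_filter, Finset.mem_range]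
    refine ⟨(phi c 27).2, ?_⟩
    unfold TP
    rw [Bool.and_eq_true, Bool.and_eq_true]
    refine ⟨tst_spec hX (F := []) (fun f hf => absurd hf List.not_mem_nil) (List.Subset.refl _) _ 27,
      tst_spec hY (F := []) (fun f hf => absurd hf List.not_mem_nil) (List.Subset.refl _) _ 27,
      tst_spec (X := pw X 2 ++ Y) ?_ (F := []) (fun f hf => absurd hf List.not_mem_nil) (List.Subset.refl _) _ 27⟩
    rw [wd_append, wd_pw]
    exact (((show Commute c (wd X) from hX).pow_right 2).mul_right (show Commute c (wd Y) from hY)).eq) st_le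
  rw [card_filter, cP] at h1
  exact h1

instance finite_he : Finite Cfsg.Spor.He := Cfsg.Agent.H436.HeFive.finite_he

theorem cp : CP 5 Cfsg.Spor.He := by
  have h5 : Fact (Nat.Prime 5) := ⟨by norm_num⟩
  have hi : ¬ 5 ∣ E.index := by
    have h1 := E.card_mul_index
    rw [card_E, KFacts.He.Classes.card_he] at h1
    have h2 : E.index = 161215488 := by omega
    rw [h2]
    norm_num
  refine ⟨isP.toSylow hi, fun z hz => ?_⟩
  have hz' : z ∈ centralizer (E : Set Cfsg.Spor.He) := hz
  have h1 : z ∈ CE := mem_CE.2 ⟨(mem_centralizer_iff.1 hz' _ mem_EX).symm, (mem_centralizer_iff.1 hz' _ mem_EY).symm⟩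
  have hE : E ≤ CE := by
    intro w hw
    obtain ⟨i, j, rfl⟩ := exists_pow powX powY commXY hw
    refine mem_CE.2 ⟨?_, ?_⟩
    · have h2 : Commute (wd X ^ i * wd Y ^ j) (wd X) :=
        ((Commute.refl (wd X)).pow_left i).mul_left ((show Commute (wd Y) (wd X) from commXY.symm).pow_left j)
      exact h2.eq
    · have h2 : Commute (wd X ^ i * wd Y ^ j) (wd Y) :=
        ((show Commute (wd X) (wd Y) from commXY).pow_left i).mul_left ((Commute.refl (wd Y)).pow_left j)
      exact h2.eq
  have hEC : E = CE := Subgroup.eq_of_le_of_card_ge hE (by rw [card_E]; exact card_CE_le)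
  have h2 : z ∈ E := by rw [hEC]; exact h1
  obtain ⟨k, hk⟩ := (IsPGroup.iff_orderOf.1 isP) ⟨z, h2⟩
  exact ⟨k, by rw [← hk]; exact (Subgroup.orderOf_coe (⟨z, h2⟩ : E))⟩

end Cfsg.Agent.H404.K6.He
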