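import Mathlib
import Cfsg.Agent.H404.K6.Sieve
import Cfsg.Agent.H404.K6.Red

/-!
S4876, helper404: the Held group, `p = 5`: seven characters in the principal block.
-/

set_option autoImplicit false

namespace Cfsg.Agent.H404.K6.He

open Subgroup Cfsg Cfsg.Agent.SmallSimple.DegreeData Cfsg.Agent.H703.Lat Cfsg.Agent.Characters.Core
  Cfsg.Agent.Blocks.Basic

universe u

/-- no solutions modulo 25 -/
theorem no_two : ∀ a b : ZMod 25, a + b + 1 = 0 → a * a + b * b + 7 ≠ 0 := by decide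

theorem no_one : ∀ a b : ZMod 25, a + 1 = 0 → a * a + b * b + 7 ≠ 0 := by decide

theorem no_five : ∀ a b : ZMod 5, a = 0 → a * a + b * b + 7 ≠ 0 := by decide

theorem no_exc : ∀ f : ZMod 25, 16 - 16 * f = 0 → f * f + f * f + 7 ≠ 0 := by decide

theorem no_exc' : ∀ f : ZMod 25, 16 + 16 * f = 0 → f * f + f * f + 7 ≠ 0 := by decide

theorem five_dvd {A B d N1 N2 : ℤ} (hd : d = 1 ∨ d = -1) (h1 : 16 * A - 8 * d * B = 25 * N1)
    (h2 : 16 * A ^ 2 - 16 * d * A * B + 72 * B ^ 2 = 625 * N2) : (5 : ℤ) ∣ B := by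
  have h3 : 1088 * B ^ 2 = 625 * (16 * N2 - N1 ^ 2) := by
    rcases hd with rfl | rfl
    · linear_combination 16 * h2 - (16 * A - 8 * B + 25 * N1) * h1
    · linear_combination 16 * h2 - (16 * A + 8 * B + 25 * N1) * h1
  have h4 : (5 : ℤ) ∣ 1088 * B ^ 2 := by
    rw [h3]
    exact Dvd.dvd.mul_right (by norm_num) _
  have h5 : Prime (5 : ℤ) := by norm_num
  rcases h5.dvd_or_dvd h4 with h6 | h6
  · norm_num at h6
  · exact h5.dvd_of_dvd_pow h6

theorem seven_of {G : Type u} [Group G] [Finite G] (hcard : 25 ∣ Nat.card G) [Fact (Nat.Prime 17)]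
    {M17 M : Ideal AlgInt} {P : Sylow 17 G} (D : BlockData 17 M17 P 8 2) (hM17 : IsPModular 17 M17)
    (hP : Nat.card P = 17) (hC : centralizer ((P : Subgroup G) : Set G) = (P : Subgroup G)) (hM : IsPModular 5 M)
    {a b c : IrrCharacter G} (ha : charDegree (a : G → ℂ) = 51) (hb : charDegree (b : G → ℂ) = 51)
    (hc : charDegree (c : G → ℂ) = 4352) (hab : a ≠ b) (ma : a ∈ principalBlock M G) (mb : b ∈ principalBlock M G)
    (mc : c ∈ principalBlock M G) : 7 ≤ Nat.card (principalBlock M G) := by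
  classical
  have : Fact (Nat.Prime 5) := ⟨by norm_num⟩
  have hPf : Fintype P := Fintype.ofFinite P
  have h6 : 6 ≤ Nat.card (principalBlock M G) := six_le_kB hM (by norm_num) (by norm_num; exact hcard)
  rw [Sieve.card_B0] at h6 ⊢
  by_contra hlt
  have hcB : (B0 M G).card = 6 := by omega
  obtain ⟨one, hone⟩ : ∃ one : IrrCharacter G, one = ⟨fun _ => 1, isIrr_one⟩ := ⟨_, rfl⟩
  have ho1 : ∀ g, (one : G → ℂ) g = 1 := fun g => by rw [hone]
  have ho : charDegree (one : G → ℂ) = 1 := by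
    apply Blocks.Knorr.charDegree_of_natCast
    rw [ho1]
    simp
  have mo : one ∈ principalBlock M G := by rw [hone, ← mem_B0]; exact one_mem_B0 hM
  have hoa : one ≠ a := fun h => by rw [h, ha] at ho; omega
  have hob : one ≠ b := fun h => by rw [h, hb] at ho; omega
  have hoc : one ≠ c := fun h => by rw [h, hc] at ho; omega
  have hac : a ≠ c := fun h => by rw [h, hc] at ha; omega
  have hbc : b ≠ c := fun h => by rw [h, hc] at hb; omega
  obtain ⟨T, hT⟩ : ∃ T : Finset (IrrCharacter G), T = {one, a, b, c} := ⟨_, rfl⟩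
  have hTB : T ⊆ B0 M G := by
    intro χ hχ
    rw [hT] at hχ
    simp only [Finset.mem_insert, Finset.mem_singleton] at hχ
    rw [mem_B0]
    rcases hχ with rfl | rfl | rfl | rfl <;> assumption
  have hTs : ∀ {A : Type} [AddCommMonoid A] (F : IrrCharacter G → A), ∑ χ ∈ T, F χ = F one + (F a + (F b + F c)) := by
    intro A _ F
    rw [hT, Finset.sum_insert (by simp [hoa, hob, hoc]), Finset.sum_insert (by simp [hab, hac]),
      Finset.sum_insert (by simp [hbc]), Finset.sum_singleton]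
  have hTc : T.card = 4 := by
    rw [Finset.card_eq_sum_ones, hTs (A := ℕ)]
    norm_num
  have hdc : (B0 M G \ T).card = 2 := by
    rw [Finset.card_sdiff_of_subset hTB]
    omega
  obtain ⟨ψ, φ, hne, hBT⟩ := Finset.card_eq_two.1 hdc
  have hsum : ∀ {A : Type} [AddCommMonoid A] (F : IrrCharacter G → A),
      ∑ χ ∈ B0 M G, F χ = (F ψ + F φ) + (F one + (F a + (F b + F c))) := by
    intro A _ F
    rw [← Finset.sum_sdiff hTB, hBT, hTs, Finset.sum_pair hne]
  -- the sum of the squares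
  have hsq := dvd_sum_sq hM (good_principal (G := G) hM) (a := 2) (by norm_num; exact hcard)
  rw [hsum, ho, ha, hb, hc] at hsq
  obtain ⟨u, hu⟩ := hsq
  have hu' : (charDegree (ψ : G → ℂ) : ℤ) * (charDegree (ψ : G → ℂ) : ℤ) +
      (charDegree (φ : G → ℂ) : ℤ) * (charDegree (φ : G → ℂ) : ℤ) + 7 = ((25 : ℕ) : ℤ) * (u - 757804) := by
    push_cast at hu ⊢
    linear_combination hu
  have hsq25 : ((charDegree (ψ : G → ℂ) : ℕ) : ZMod 25) * (charDegree (ψ : G → ℂ) : ℕ) +
      ((charDegree (φ : G → ℂ) : ℕ) : ZMod 25) * (charDegree (φ : G → ℂ) : ℕ) + 7 = 0 := by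
    have h1 := congrArg (fun z : ℤ => (z : ZMod 25)) hu'
    simp only [Int.cast_mul, Int.cast_add, Int.cast_natCast] at h1
    rw [ZMod.natCast_self, zero_mul] at h1
    exact_mod_cast h1
  have hsq5 : ((charDegree (ψ : G → ℂ) : ℕ) : ZMod 5) * (charDegree (ψ : G → ℂ) : ℕ) +
      ((charDegree (φ : G → ℂ) : ℕ) : ZMod 5) * (charDegree (φ : G → ℂ) : ℕ) + 7 = 0 := by
    have h1 := congrArg (fun z : ℤ => (z : ZMod 5)) hu'
    simp only [Int.cast_mul, Int.cast_add, Int.cast_natCast] at h1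
    rw [(ZMod.natCast_eq_zero_iff 25 5).2 (by norm_num), zero_mul] at h1
    exact_mod_cast h1
  -- values
  have vz : ∀ {χ : IrrCharacter G} {m : ℕ}, charDegree (χ : G → ℂ) = 17 * m → ∀ x ∈ P, x ≠ 1 → (χ : G → ℂ) x = 0 := by
    intro χ m hm
    have hX : χ ∉ D.X := by
      intro hX
      have h1 := Sieve.modEq_X D hP hX
      rw [hm] at h1
      have h2 := Int.ModEq.dvd h1
      rcases D.d_mem with h3 | h3 <;> rw [h3] at h2 <;> push_cast at h2 <;> omega
    obtain ⟨ε, h1, h2, h3⟩ := Sieve.type D hM17 hP hC hX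
    have h4 : ε = 0 := by
      rw [hm] at h2
      have h5 := Int.ModEq.dvd h2
      rcases h1 with rfl | rfl | rfl
      · rfl
      · push_cast at h5; omega
      · push_cast at h5; omega
    intro x hx hx1
    rw [h3 x hx hx1, h4]
    simp
  have va := vz (χ := a) (m := 3) ha
  have vb := vz (χ := b) (m := 3) hb
  have vc := vz (χ := c) (m := 256) hc
  have hth : ∀ x : P, ∃ n : ℤ, x ≠ 1 → (charDegree (ψ : G → ℂ) : ℂ) * (ψ : G → ℂ) x +
      (charDegree (φ : G → ℂ) : ℂ) * (φ : G → ℂ) x + 1 = 25 * n := by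
    intro x
    by_cases hx : x = 1
    · exact ⟨0, fun h => absurd hx h⟩
    obtain ⟨n, hn⟩ := theta_dvd hM (good_principal (G := G) hM) (a := 2) (by norm_num; exact hcard) (x : G)
    have hx1 : (x : G) ≠ 1 := fun h => hx (Subtype.ext h)
    rw [hsum, va x x.2 hx1, vb x x.2 hx1, vc x x.2 hx1, ho1, ho] at hn
    refine ⟨n, fun _ => ?_⟩
    push_cast at hn
    linear_combination hn
  choose n hn using hth
  obtain ⟨x0, hx0⟩ : ∃ x : P, x ≠ 1 := by
    have : Nontrivial P := Finite.one_lt_card_iff_nontrivial.1 (by rw [hP]; norm_num)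
    exact exists_ne 1
  have hx0' : (x0 : G) ≠ 1 := fun h => hx0 (Subtype.ext h)
  have hcE : ((Finset.univ.erase (1 : P)).card : ℂ) = 16 := by
    rw [Finset.card_erase_of_mem (Finset.mem_univ _), Finset.card_univ, ← Nat.card_eq_fintype_card,
      show Nat.card (↥P) = 17 from hP]
    norm_num
  -- exactly one exceptional character
  have hmix : ∀ (α β : IrrCharacter G) (m : P → ℤ), (∀ x : P, x ≠ 1 → (charDegree (α : G → ℂ) : ℂ) * (α : G → ℂ) x +
      (charDegree (β : G → ℂ) : ℂ) * (β : G → ℂ) x + 1 = 25 * m x) → α ∈ D.X → β ∉ D.X →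
      (5 : ℤ) ∣ (charDegree (α : G → ℂ) : ℤ) := by
    intro α β m hm hα hβ
    obtain ⟨ε, -, -, h3⟩ := Sieve.type D hM17 hP hC hβ
    obtain ⟨A, hA⟩ : ∃ A : ℤ, A = (charDegree (β : G → ℂ) : ℤ) * ε + 1 := ⟨_, rfl⟩
    obtain ⟨B, hB⟩ : ∃ B : ℤ, B = (charDegree (α : G → ℂ) : ℤ) := ⟨_, rfl⟩
    have hT : ∀ x : P, x ≠ 1 → (A : ℂ) + B * (α : G → ℂ) x = 25 * m x := by
      intro x hx
      have h1 := hm x hx
      rw [h3 x x.2 (fun h => hx (Subtype.ext h))] at h1
      rw [← h1, hA, hB]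
      push_cast
      ring
    rw [← hB]
    have e1 := Sieve.sum_X D hα
    have e2 := Sieve.sum_X_inv D hα
    have e3 := Sieve.sum_sq_X D hP hα
    refine five_dvd (A := A) (N1 := ∑ x ∈ Finset.univ.erase (1 : P), m x)
      (N2 := ∑ x ∈ Finset.univ.erase (1 : P), m x * m x⁻¹) D.d_mem ?_ ?_
    · have h1 : ∑ x ∈ Finset.univ.erase (1 : P), ((A : ℂ) + B * (α : G → ℂ) x) =
          ∑ x ∈ Finset.univ.erase (1 : P), (25 * m x : ℂ) :=
        Finset.sum_congr rfl fun x hx => hT x (Finset.ne_of_mem_erase hx)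
      rw [Finset.sum_add_distrib, Finset.sum_const, ← Finset.mul_sum, e1, nsmul_eq_mul, hcE, ← Finset.mul_sum] at h1
      have h2 : ((16 * A - 8 * D.d * B : ℤ) : ℂ) = ((25 * ∑ x ∈ Finset.univ.erase (1 : P), m x : ℤ) : ℂ) := by
        push_cast at h1 ⊢
        linear_combination h1
      exact_mod_cast h2
    · have h1 : ∑ x ∈ Finset.univ.erase (1 : P), ((A : ℂ) ^ 2 + A * B * (α : G → ℂ) x +
          A * B * (α : G → ℂ) ((x⁻¹ : P) : G) + B ^ 2 * ((α : G → ℂ) x * (α : G → ℂ) ((x⁻¹ : P) : G))) =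
          ∑ x ∈ Finset.univ.erase (1 : P), (625 * (m x * m x⁻¹) : ℂ) := by
        refine Finset.sum_congr rfl fun x hx => ?_
        have h2 := hT x (Finset.ne_of_mem_erase hx)
        have h4 := hT x⁻¹ (inv_ne_one.2 (Finset.ne_of_mem_erase hx))
        linear_combination (A + B * (α : G → ℂ) ((x⁻¹ : P) : G)) * h2 + 25 * (m x : ℂ) * h4
      rw [Finset.sum_add_distrib, Finset.sum_add_distrib, Finset.sum_add_distrib, Finset.sum_const, ← Finset.mul_sum,
        ← Finset.mul_sum, ← Finset.mul_sum, e1, e2, e3, nsmul_eq_mul, hcE, ← Finset.mul_sum] at h1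
      have h2 : ((16 * A ^ 2 - 16 * D.d * A * B + 72 * B ^ 2 : ℤ) : ℂ) =
          ((625 * ∑ x ∈ Finset.univ.erase (1 : P), m x * m x⁻¹ : ℤ) : ℂ) := by
        push_cast at h1 ⊢
        linear_combination h1
      exact_mod_cast h2
  have h5z : ∀ α : IrrCharacter G, (5 : ℤ) ∣ (charDegree (α : G → ℂ) : ℤ) →
      ((charDegree (α : G → ℂ) : ℕ) : ZMod 5) = 0 := by
    intro α h
    rw [ZMod.natCast_eq_zero_iff]
    exact_mod_cast h
  by_cases hψ : ψ ∈ D.X
  · by_cases hφ : φ ∈ D.X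
    · have h1 : ∑ x ∈ Finset.univ.erase (1 : P), ((charDegree (ψ : G → ℂ) : ℂ) * (ψ : G → ℂ) x +
          (charDegree (φ : G → ℂ) : ℂ) * (φ : G → ℂ) x + 1) = ∑ x ∈ Finset.univ.erase (1 : P), (25 * n x : ℂ) :=
        Finset.sum_congr rfl fun x hx => hn x (Finset.ne_of_mem_erase hx)
      rw [Finset.sum_add_distrib, Finset.sum_add_distrib, Finset.sum_const, ← Finset.mul_sum, ← Finset.mul_sum,
        Sieve.sum_X D hψ, Sieve.sum_X D hφ, nsmul_eq_mul, hcE, ← Finset.mul_sum, D.deg_X ψ hψ, D.deg_X φ hφ] at h1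
      have h2 : 16 - 16 * D.d * (D.f : ℤ) = 25 * ∑ x ∈ Finset.univ.erase (1 : P), n x := by
        have h3 : ((16 - 16 * D.d * (D.f : ℤ) : ℤ) : ℂ) = ((25 * ∑ x ∈ Finset.univ.erase (1 : P), n x : ℤ) : ℂ) := by
          push_cast at h1 ⊢
          linear_combination h1
        exact_mod_cast h3
      have h3 := congrArg (fun z : ℤ => (z : ZMod 25)) h2
      push_cast at h3
      have h25 : ((25 : ZMod 25)) = 0 := by decide
      rw [h25, zero_mul] at h3
      rw [D.deg_X ψ hψ, D.deg_X φ hφ] at hsq25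
      rcases D.d_mem with hd | hd
      · refine no_exc (D.f : ZMod 25) ?_ hsq25
        rw [hd] at h3
        rw [← h3]
        push_cast
        ring
      · refine no_exc' (D.f : ZMod 25) ?_ hsq25
        rw [hd] at h3
        rw [← h3]
        push_cast
        ring
    · exact no_five _ _ (h5z ψ (hmix ψ φ n hn hψ hφ)) hsq5
  · by_cases hφ : φ ∈ D.X
    · refine no_five _ _ (h5z φ (hmix φ ψ n (fun x hx => ?_) hφ hψ)) (by rw [add_comm (_ * _)]; exact hsq5)
      rw [← hn x hx]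
      ring
    · obtain ⟨ε, h1, -, h3⟩ := Sieve.type D hM17 hP hC hψ
      obtain ⟨ε', h1', -, h3'⟩ := Sieve.type D hM17 hP hC hφ
      have h4 := hn x0 hx0
      rw [h3 _ x0.2 hx0', h3' _ x0.2 hx0'] at h4
      have h5 : (charDegree (ψ : G → ℂ) : ℤ) * ε + (charDegree (φ : G → ℂ) : ℤ) * ε' + 1 = 25 * n x0 := by
        exact_mod_cast h4
      have h6 := congrArg (fun z : ℤ => (z : ZMod 25)) h5
      push_cast at h6
      have h25 : ((25 : ZMod 25)) = 0 := by decide
      rw [h25, zero_mul] at h6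
      rcases h1 with rfl | rfl | rfl <;> rcases h1' with rfl | rfl | rfl <;> push_cast at h6
      · rw [mul_zero, mul_zero, zero_add, zero_add] at h6
        exact absurd h6 (by decide)
      · exact no_one ((charDegree (φ : G → ℂ) : ℕ) : ZMod 25) ((charDegree (ψ : G → ℂ) : ℕ) : ZMod 25)
          (by rw [← h6]; ring) (by rw [← hsq25]; ring)
      · exact no_one (-((charDegree (φ : G → ℂ) : ℕ) : ZMod 25)) ((charDegree (ψ : G → ℂ) : ℕ) : ZMod 25)
          (by rw [← h6]; ring) (by rw [← hsq25]; ring)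
      · exact no_one ((charDegree (ψ : G → ℂ) : ℕ) : ZMod 25) ((charDegree (φ : G → ℂ) : ℕ) : ZMod 25)
          (by rw [← h6]; ring) (by rw [← hsq25])
      · exact no_two ((charDegree (ψ : G → ℂ) : ℕ) : ZMod 25) ((charDegree (φ : G → ℂ) : ℕ) : ZMod 25)
          (by rw [← h6]; ring) (by rw [← hsq25])
      · exact no_two ((charDegree (ψ : G → ℂ) : ℕ) : ZMod 25) (-((charDegree (φ : G → ℂ) : ℕ) : ZMod 25))
          (by rw [← h6]; ring) (by rw [← hsq25]; ring)
      · exact no_one (-((charDegree (ψ : G → ℂ) : ℕ) : ZMod 25)) ((charDegree (φ : G → ℂ) : ℕ) : ZMod 25)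
          (by rw [← h6]; ring) (by rw [← hsq25]; ring)
      · exact no_two (-((charDegree (ψ : G → ℂ) : ℕ) : ZMod 25)) ((charDegree (φ : G → ℂ) : ℕ) : ZMod 25)
          (by rw [← h6]; ring) (by rw [← hsq25]; ring)
      · exact no_two (-((charDegree (ψ : G → ℂ) : ℕ) : ZMod 25)) (-((charDegree (φ : G → ℂ) : ℕ) : ZMod 25))
          (by rw [← h6]; ring) (by rw [← hsq25]; ring)

end Cfsg.Agent.H404.K6.He
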