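import Mathlib
import Cfsg.Agent.H404.K6.CritT
import Cfsg.Agent.H820.K6.ASix
import Cfsg.Agent.H820.K6.Loc
import Cfsg.Agent.H210.On7.Three
import Cfsg.Agent.S1000
import Cfsg.Agent.SmallSimple.S1000.Consequences

/-!
S4876, helper404: the O'Nan group, `p = 3`: the centralizer `3² × A₆` of an element of order 3.
-/

set_option autoImplicit false

namespace Cfsg.Agent.H404.K6.ON

open Subgroup Cfsg Cfsg.Agent.H61.K6
open Cfsg.Spor (ON)
open Cfsg.Agent.R04.ClosingE (ThreeData)
open Cfsg.Agent.KFacts.ON.Cent (finite_ON)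
open Cfsg.Agent.H820.K6 (WX)
open Cfsg.Agent.H820.K6.ASix (A6 t1 sgt1 cen1)

variable {x : ON} {P L : Subgroup ON} {s : ON}

theorem exists_equiv (T : ThreeData x P L s) : Nonempty (L ≃* A6) := by
  have hfin := finite_ON
  have hs := T.simple
  have hc := T.cardL
  have hna : ¬ IsMulCommutative L := by
    intro h
    have h1 : (Nat.card L).Prime := by
      have := h
      let _ : CommGroup L := { (inferInstance : Group L) with mul_comm := h.is_comm.comm }
      exact IsSimpleGroup.prime_card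
    rw [hc] at h1
    norm_num at h1
  have hK := Cfsg.Agent.SmallSimple.S1000.Consequences.known_cases (H := L)
    (S1000.result hna 5 2 3 (by norm_num) (by rw [hc]; norm_num))
  rw [hc] at hK
  rcases hK with ⟨h, -⟩ | ⟨-, h⟩ | ⟨h, -⟩ | ⟨h, -⟩ | ⟨h, -⟩ | ⟨h, -⟩ | ⟨h, -⟩ | ⟨h, -⟩
  · norm_num at h
  · exact h
  · norm_num at h
  · norm_num at h
  · norm_num at h
  · norm_num at h
  · norm_num at h
  · norm_num at h

theorem exists_surj (T : ThreeData x P L s) :
    ∃ φ : ↥(centralizer ({x} : Set ON)) →* A6, Function.Surjective φ := by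
  obtain ⟨e⟩ := exists_equiv T
  have hcomm : ∀ (a : P) (b : L), Commute (P.subtype a) (L.subtype b) := fun a b => T.comm a a.2 b b.2
  let m : P × L →* ON := MonoidHom.noncommCoprod P.subtype L.subtype hcomm
  have hm : Function.Injective m := by
    rw [injective_iff_map_eq_one]
    rintro ⟨a, b⟩ h
    have h1 : (a : ON) * b = 1 := h
    have h2 : (a : ON) = (b : ON)⁻¹ := eq_inv_of_mul_eq_one_left h1
    have h3 : (a : ON) ∈ P ⊓ L := Subgroup.mem_inf.2 ⟨a.2, by rw [h2]; exact L.inv_mem b.2⟩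
    rw [T.disj, Subgroup.mem_bot] at h3
    rw [h3, one_mul] at h1
    exact Prod.ext (Subtype.ext h3) (Subtype.ext h1)
  have hr : m.range = centralizer ({x} : Set ON) := by
    rw [T.cent]
    apply le_antisymm
    · rintro _ ⟨⟨a, b⟩, rfl⟩
      exact mul_mem (le_sup_left (a := P) a.2) (le_sup_right (a := P) b.2)
    · refine sup_le ?_ ?_
      · intro a ha
        exact ⟨(⟨a, ha⟩, 1), by show a * 1 = a; rw [mul_one]⟩
      · intro b hb
        exact ⟨(1, ⟨b, hb⟩), by show 1 * b = b; rw [one_mul]⟩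
  let E : P × L ≃* ↥(centralizer ({x} : Set ON)) := (MonoidHom.ofInjective hm).trans (MulEquiv.subgroupCongr hr)
  refine ⟨e.toMonoidHom.comp ((MonoidHom.snd P L).comp E.symm.toMonoidHom), fun y => ?_⟩
  refine ⟨E (1, e.symm y), ?_⟩
  show e ((E.symm (E (1, e.symm y))).2) = y
  rw [E.symm_apply_apply, e.apply_symm_apply]

theorem wx (T : ThreeData x P L s) : WX 3 x 4 := by
  intro M hM
  have hfin := finite_ON
  have : Fact (Nat.Prime 3) := ⟨Nat.prime_three⟩
  obtain ⟨φ, hφ⟩ := exists_surj T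
  exact (H820.K6.ASix.rank hM).trans (H820.K6.rank_le_of_surj hM φ hφ)

theorem el (T : ThreeData x P L s) : El 3 x := by
  refine ⟨⟨1, by rw [T.ox, pow_one]⟩, fun h => ?_⟩
  have := T.ox
  rw [h, orderOf_one] at this
  omega

theorem cp : CP 3 ON := by
  have hfin := finite_ON
  have h3 : Fact (Nat.Prime 3) := ⟨Nat.prime_three⟩
  obtain ⟨x, P, L, s, T⟩ := H210.On7.exists_threeData
  obtain ⟨e⟩ := exists_equiv T
  obtain ⟨t, ht⟩ : ∃ t : A6, (t : Equiv.Perm (Fin 6)) = t1 := ⟨⟨t1, Equiv.Perm.mem_alternatingGroup.2 sgt1⟩, rfl⟩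
  have hct : ∀ g : A6, g * t = t * g → g * g * g = 1 := by
    intro g hg
    have h1 := congrArg (fun z : A6 => (z : Equiv.Perm (Fin 6))) hg
    have h2 : (g : Equiv.Perm (Fin 6)) * t1 = t1 * g := by rw [← ht]; exact h1
    exact Subtype.ext (cen1 _ h2 (Equiv.Perm.mem_alternatingGroup.1 g.2))
  obtain ⟨y, hy⟩ : ∃ y : L, e y = t := e.surjective t
  -- the common centralizer
  have hz : ∀ z : ON, z * x = x * z → z * y = y * z → z ^ 3 = 1 := by
    intro z hzx hzy
    have h1 : z ∈ P ⊔ L := by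
      rw [← T.cent]
      exact mem_centralizer_singleton_iff.2 hzx
    have hcomm : ∀ (a : P) (b : L), Commute (P.subtype a) (L.subtype b) := fun a b => T.comm a a.2 b b.2
    obtain ⟨a, ha, b, hb, hab⟩ : ∃ a ∈ P, ∃ b ∈ L, a * b = z := by
      have h2 : P ⊔ L ≤ (MonoidHom.noncommCoprod P.subtype L.subtype hcomm).range := by
        refine sup_le ?_ ?_
        · intro a ha
          exact ⟨(⟨a, ha⟩, 1), by show a * 1 = a; rw [mul_one]⟩
        · intro b hb
          exact ⟨(1, ⟨b, hb⟩), by show 1 * b = b; rw [one_mul]⟩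
      obtain ⟨⟨a, b⟩, h⟩ := h2 h1
      exact ⟨a, a.2, b, b.2, h⟩
    have hay := T.comm a ha y y.2
    have hby : b * y = y * b := by
      have h2 : a * (b * y) = a * (y * b) := by
        calc a * (b * y) = (a * b) * y := by group
          _ = y * (a * b) := by rw [hab, hzy]
          _ = (y * a) * b := by group
          _ = (a * y) * b := by rw [hay]
          _ = a * (y * b) := by group
      exact mul_left_cancel h2
    have hb3 : b * b * b = 1 := by
      have h2 : e ⟨b, hb⟩ * t = t * e ⟨b, hb⟩ := by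
        rw [← hy, ← map_mul, ← map_mul]
        exact congrArg e (Subtype.ext hby)
      have h3 := hct _ h2
      rw [← map_mul, ← map_mul] at h3
      have h4 := e.injective (h3.trans (map_one e).symm)
      exact congrArg Subtype.val h4
    have h5 : Commute a b := T.comm a ha b hb
    rw [← hab, h5.mul_pow, T.expP a ha, one_mul, pow_succ, pow_two, hb3]
  have hxy : x * y = y * x := T.comm x T.xP y y.2
  have hx3 : x ^ 3 = 1 := T.expP x T.xP
  have hy3 : (y : ON) ^ 3 = 1 := hz y hxy.symm rfl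
  have hpx : IsPGroup 3 (zpowers x) := by
    rintro ⟨g, hg⟩
    obtain ⟨k, rfl⟩ := mem_zpowers_iff.1 hg
    refine ⟨1, Subtype.ext ?_⟩
    show (x ^ k) ^ 3 ^ 1 = 1
    rw [pow_one, ← zpow_natCast, ← zpow_mul, mul_comm, zpow_mul, zpow_natCast, hx3, one_zpow]
  have hpy : IsPGroup 3 (zpowers (y : ON)) := by
    rintro ⟨g, hg⟩
    obtain ⟨k, rfl⟩ := mem_zpowers_iff.1 hg
    refine ⟨1, Subtype.ext ?_⟩
    show ((y : ON) ^ k) ^ 3 ^ 1 = 1
    rw [pow_one, ← zpow_natCast, ← zpow_mul, mul_comm, zpow_mul, zpow_natCast, hy3, one_zpow]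
  have hH : IsPGroup 3 (zpowers x ⊔ zpowers (y : ON) : Subgroup ON) := by
    refine IsPGroup.to_sup_of_normal_right' hpx hpy ?_
    rw [zpowers_le]
    refine centralizer_le_normalizer _ ?_
    rw [mem_centralizer_iff]
    intro g hg
    obtain ⟨k, rfl⟩ := mem_zpowers_iff.1 hg
    exact ((show Commute x (y : ON) from hxy).zpow_right k).symm.eq
  obtain ⟨Q, hQ⟩ := hH.exists_le_sylow
  refine ⟨Q, fun z hz' => ?_⟩
  have h1 := mem_centralizer_iff.1 hz' x (hQ (le_sup_left (a := zpowers x) (mem_zpowers x)))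
  have h2 := mem_centralizer_iff.1 hz' y (hQ (le_sup_right (a := zpowers x) (mem_zpowers (y : ON))))
  have h4 := orderOf_dvd_of_pow_eq_one (hz z h1.symm h2.symm)
  obtain ⟨k, -, hk⟩ := (Nat.dvd_prime_pow Nat.prime_three).1 (by rw [pow_one]; exact h4 : orderOf z ∣ 3 ^ 1)
  exact ⟨k, hk⟩

end Cfsg.Agent.H404.K6.ON
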