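import Mathlib
import Cfsg.Agent.H121.K6.Tools
import Cfsg.Agent.H80.K6.Crit
import Cfsg.Agent.H80.K6.Out
import Cfsg.Agent.H210.ON3.Cent
import Cfsg.Agent.H593.IMRank

/-!
S4876, helper404: **the row of the O'Nan group, `p = 7`**: `C(7A) = 7^{1+2} : 4`, `C(7B) = 7²`.
-/

set_option autoImplicit false

namespace Cfsg.Agent.H404.K6.ON7

open Subgroup Cfsg Cfsg.Agent.H61.K6 Cfsg.Agent.H80.K6
open Cfsg.Spor (ON)
open Cfsg.Agent.H210.ON3 (C B E4 card_C card_B order_C order_B E4_pow E4_comm E4_ne C_ne B_ne not_conj conj_C)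
open Cfsg.Agent.KFacts.ON.Cent (finite_ON)
open Cfsg.Agent.KFacts.ON.OneClass (card_ON)

universe u v

/-- The order of the centralizer of an involution of the O'Nan group is not divisible by 343. -/
theorem not_343 {t : ON} (ht : orderOf t = 2) : ¬ 343 ∣ Nat.card ↥(centralizer ({t} : Set ON)) := by
  have h1 : t * t = 1 := by rw [← pow_two, ← ht, pow_orderOf_eq_one]
  have h2 : t ≠ 1 := by
    intro h
    rw [h, orderOf_one] at ht
    norm_num at ht
  rw [H210.ON3.card_cent_of_isConj (KFacts.ON.OneClass.one_class h1 h2), KFacts.ON.Cent.card_cent]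
  norm_num

abbrev H : Subgroup ON := centralizer ({C} : Set ON)

theorem card_H : Nat.card H = 1372 := card_C

theorem exists_Q : ∃ Q : Subgroup H, Q.Normal ∧ IsPGroup 7 Q ∧ Nat.card Q = 343 ∧
    centralizer (Q : Set H) ≤ Q := by
  have hfin := finite_ON
  have h7 : Fact (Nat.Prime 7) := ⟨by norm_num⟩
  obtain ⟨Q⟩ : Nonempty (Sylow 7 H) := inferInstance
  have hQ : Nat.card Q = 343 := by
    have h1 : Nat.card Q ∣ 1372 := by rw [← card_H]; exact (Q : Subgroup H).card_subgroup_dvd_card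
    have h2 : 7 ^ 3 ∣ Nat.card Q := Q.pow_dvd_card_of_pow_dvd_card (by rw [card_H]; norm_num)
    obtain ⟨n, hn⟩ := IsPGroup.iff_card.1 Q.isPGroup'
    have hn' : Nat.card Q = 7 ^ n := hn
    rw [hn'] at h1 h2 ⊢
    have h3 := (Nat.pow_dvd_pow_iff_le_right (by norm_num : 1 < 7)).1 h2
    have h4 : n ≤ 3 := by
      by_contra hcon
      have h5 : 7 ^ 4 ∣ 1372 := (Nat.pow_dvd_pow 7 (by omega : 4 ≤ n)).trans h1
      norm_num at h5
    have h5 : n = 3 := by omega
    rw [h5]
    norm_num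
  have hidx : (Q : Subgroup H).index = 4 := by
    have h1 := (Q : Subgroup H).card_mul_index
    rw [card_H, show Nat.card (Q : Subgroup H) = 343 from hQ] at h1
    omega
  have hone : Nat.card (Sylow 7 H) = 1 := by
    have h1 := Sylow.card_dvd_index Q
    rw [hidx] at h1
    have h2 := card_sylow_modEq_one 7 H
    have h3 := Nat.le_of_dvd (by norm_num) h1
    unfold Nat.ModEq at h2
    omega
  have hsub : Subsingleton (Sylow 7 H) := (Nat.card_eq_one_iff_unique.1 hone).1
  have hn : (Q : Subgroup H).Normal := Sylow.normal_of_subsingleton Q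
  refine ⟨Q, hn, Q.isPGroup', hQ, ?_⟩
  -- no involution centralizes `Q`
  have h2 : ¬ 2 ∣ Nat.card ↥(centralizer ((Q : Subgroup H) : Set H)) := by
    intro h
    have h2F : Fact (Nat.Prime 2) := ⟨Nat.prime_two⟩
    obtain ⟨t, ht⟩ := exists_prime_orderOf_dvd_card' (G := ↥(centralizer ((Q : Subgroup H) : Set H))) 2 h
    have ht2 : orderOf (((t : H) : ON)) = 2 := by rw [Subgroup.orderOf_coe, Subgroup.orderOf_coe, ht]
    apply not_343 ht2
    have h3 : (Q : Subgroup H).map H.subtype ≤ centralizer ({((t : H) : ON)} : Set ON) := by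
      rintro _ ⟨q, hq, rfl⟩
      rw [mem_centralizer_singleton_iff]
      have h4 := mem_centralizer_iff.1 t.2 q hq
      exact congrArg Subtype.val h4
    have h4 := Subgroup.card_dvd_of_le h3
    rwa [Nat.card_congr ((Q : Subgroup H).equivMapOfInjective H.subtype H.subtype_injective).symm.toEquiv,
      show Nat.card (Q : Subgroup H) = 343 from hQ] at h4
  intro y hy
  have h3 : Nat.card ↥(centralizer ((Q : Subgroup H) : Set H)) ∣ 343 := by
    have h4 : Nat.card ↥(centralizer ((Q : Subgroup H) : Set H)) ∣ 4 * 343 := by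
      have := (centralizer ((Q : Subgroup H) : Set H)).card_subgroup_dvd_card
      rw [card_H] at this
      exact this
    refine Nat.Coprime.dvd_of_dvd_mul_left ?_ h4
    have h5 : (Nat.card ↥(centralizer ((Q : Subgroup H) : Set H))).Coprime (2 ^ 2) :=
      Nat.Coprime.pow_right 2 ((Nat.Prime.coprime_iff_not_dvd Nat.prime_two).2 h2).symm
    exact h5
  have h4 : IsPGroup 7 ↥(centralizer ((Q : Subgroup H) : Set H)) := by
    rw [IsPGroup.iff_card]
    obtain ⟨k, -, hk⟩ := (Nat.dvd_prime_pow (by norm_num : Nat.Prime 7)).1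
      (show Nat.card ↥(centralizer ((Q : Subgroup H) : Set H)) ∣ 7 ^ 3 from h3)
    exact ⟨k, hk⟩
  obtain ⟨R, hR⟩ := h4.exists_le_sylow
  rw [Subsingleton.elim R Q] at hR
  exact hR hy

/-- `l(B₀(C(7A))) ≥ 4` -/
theorem rank_C (M : Ideal AlgInt) (hM : IsPModular 7 M) : 4 ≤ blockRank 7 (principalBlock M ↥H) := by
  classical
  have hfin := finite_ON
  have h7 : Fact (Nat.Prime 7) := ⟨by norm_num⟩
  have h2F : Fact (Nat.Prime 2) := ⟨Nat.prime_two⟩
  obtain ⟨Q, hn, hQ, hQc, hC⟩ := exists_Q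
  have h1 : (principalBlock M ↥H : Set (IrrCharacter ↥H)) = Set.univ := by
    rw [Set.eq_univ_iff_forall]
    intro χ
    exact Cfsg.Agent.Blocks.UniqueBlock.sameBlock_of_centralizer_le hM Q hQ hC
      ⟨fun _ => 1, Characters.Core.isIrr_one⟩ χ
  rw [h1]
  obtain ⟨e, he⟩ : ∃ e : H, (e : ON) = E4 := ⟨⟨E4, mem_centralizer_singleton_iff.2 E4_comm⟩, rfl⟩
  have he4 : e ^ 4 = 1 := Subtype.ext (by rw [Subgroup.coe_pow, he, E4_pow]; rfl)
  have he2 : e ^ 2 ≠ 1 := fun h => E4_ne (by
    have h2 := congrArg (fun z : H => (z : ON)) h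
    rw [← he]
    exact h2)
  have hoe : orderOf e = 4 := by
    have h2 := orderOf_eq_prime_pow (p := 2) (n := 1) (x := e) (by rw [pow_one]; exact he2) (by norm_num; exact he4)
    rw [h2]
    norm_num
  have hq4 : Nat.card (H ⧸ Q) = 2 ^ 2 := by
    have h2 := Q.card_mul_index
    rw [card_H, hQc, Subgroup.index_eq_card] at h2
    omega
  have hcomm : IsMulCommutative (H ⧸ Q) := IsPGroup.isMulCommutative_of_card_eq_prime_sq hq4
  have key := H593.IMRank.card_le_blockRank (G := ↥H) 7 (ι := Fin 4) (fun i => e ^ (i : ℕ)) (fun i h => ?_)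
    (fun i j h => ?_)
  · rwa [Fintype.card_fin] at key
  · have h2 : orderOf (e ^ (i : ℕ)) ∣ 4 := (orderOf_pow_dvd (i : ℕ)).trans hoe.dvd
    have h3 := h.trans h2
    norm_num at h3
  · obtain ⟨g, hg⟩ := isConj_iff.1 h
    have h2 : ((e ^ (i : ℕ) : H) : H ⧸ Q) = ((e ^ (j : ℕ) : H) : H ⧸ Q) := by
      rw [← hg]
      have h3 := hcomm.is_comm.comm ((g : H ⧸ Q)) (((e ^ (i : ℕ) : H) : H ⧸ Q))
      rw [QuotientGroup.mk_mul, QuotientGroup.mk_mul, h3, mul_assoc, QuotientGroup.mk_inv, mul_inv_cancel, mul_one]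
    rw [QuotientGroup.eq] at h2
    have h3 : (e ^ (i : ℕ))⁻¹ * e ^ (j : ℕ) ∈ zpowers e :=
      (zpowers e).mul_mem ((zpowers e).inv_mem (pow_mem (mem_zpowers e) _)) (pow_mem (mem_zpowers e) _)
    have h4 : (e ^ (i : ℕ))⁻¹ * e ^ (j : ℕ) = 1 := by
      have h5 : orderOf ((e ^ (i : ℕ))⁻¹ * e ^ (j : ℕ)) ∣ 343 := by
        have h6 : orderOf (⟨_, h2⟩ : Q) ∣ Nat.card Q := orderOf_dvd_natCard _
        rwa [Subgroup.orderOf_mk, hQc] at h6
      have h7 : orderOf ((e ^ (i : ℕ))⁻¹ * e ^ (j : ℕ)) ∣ 4 := by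
        have h6 : orderOf (⟨_, h3⟩ : zpowers e) ∣ Nat.card (zpowers e) := orderOf_dvd_natCard _
        rwa [Subgroup.orderOf_mk, Nat.card_zpowers, hoe] at h6
      exact orderOf_eq_one_iff.1 (Nat.eq_one_of_dvd_coprimes (by norm_num : Nat.Coprime 343 4) h5 h7)
    have h5 : e ^ (i : ℕ) = e ^ (j : ℕ) := inv_mul_eq_one.1 h4
    have h6 := pow_inj_mod.1 h5
    rw [hoe, Nat.mod_eq_of_lt i.2, Nat.mod_eq_of_lt j.2] at h6
    exact Fin.ext h6

theorem el_C : El 7 C := ⟨⟨1, by rw [order_C, pow_one]⟩, C_ne⟩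

theorem el_B : El 7 B := ⟨⟨1, by rw [order_B, pow_one]⟩, B_ne⟩

theorem not_compl : ¬ HasNormalPComplement 7 ON := by
  have h7 : Fact (Nat.Prime 7) := ⟨by norm_num⟩
  have hfin := finite_ON
  obtain ⟨g, hg⟩ := isConj_iff.1 (conj_C ((zpowers C).inv_mem (mem_zpowers C)) (inv_ne_one.2 C_ne))
  refine H121.K6.not_compl_of_inv (by norm_num) (by norm_num) (k := 1) (y := C) (n := g) ?_ C_ne ?_
  · rw [pow_one, ← order_C, pow_orderOf_eq_one]
  · have h1 := congrArg (fun z => z⁻¹) hg
    have h2 : (g * C⁻¹ * g⁻¹)⁻¹ = C⁻¹ := h1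
    rw [← h2]
    group

theorem BC_ne : B ≠ C := by
  intro h
  have h1 := card_B
  rw [h, card_C] at h1
  norm_num at h1

open scoped Classical in
/-- the weights -/
noncomputable def wf (n : ℕ) (x : ON) : ℕ := if x = C then n else 1

open scoped Classical in
/-- the elements -/
noncomputable def TT : Finset ON := {C, B}

theorem mem_TT {x : ON} : x ∈ TT ↔ x = C ∨ x = B := by
  classical
  unfold TT
  rw [Finset.mem_insert, Finset.mem_singleton]

theorem sum_wf (n : ℕ) : ∑ x ∈ TT, wf n x = n + 1 := by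
  classical
  have h1 : ∑ x ∈ TT, wf n x = wf n C + wf n B := by
    unfold TT
    rw [Finset.sum_insert (by rw [Finset.mem_singleton]; exact BC_ne.symm), Finset.sum_singleton]
  rw [h1]
  unfold wf
  rw [if_pos rfl, if_neg BC_ne]

theorem el_TT {x : ON} (hx : x ∈ TT) : El 7 x := by
  rcases mem_TT.1 hx with rfl | rfl
  · exact el_C
  · exact el_B

theorem seven (M : Ideal AlgInt) (hM : IsPModular 7 M) : 7 ≤ Nat.card (principalBlock M ON) := by
  have hfin := finite_ON
  have h7 : Fact (Nat.Prime 7) := ⟨by norm_num⟩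
  have h := le_card_of_ranks hM not_compl TT (fun x hx => el_TT hx) (fun x hx y hy h => by
    rcases mem_TT.1 hx with rfl | rfl <;> rcases mem_TT.1 hy with rfl | rfl
    · rfl
    · exact absurd h not_conj
    · exact absurd h.symm not_conj
    · rfl) (wf 4) (fun x hx => by
    rcases mem_TT.1 hx with rfl | rfl
    · unfold wf
      rw [if_pos rfl]
      exact rank_C M hM
    · unfold wf
      rw [if_neg BC_ne]
      have := Fintype.ofFinite ↥(centralizer ({B} : Set ON))
      exact H634.Cols.blockRank_pos hM)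
  rw [sum_wf] at h
  omega

theorem eps_C : EpsGe.{u, 0} 7 C 3 := by
  have hfin := finite_ON
  obtain ⟨Q, hn, hQ, hQc, hC⟩ := exists_Q
  have h := epsGe_constrained.{u, 0} (p := 7) (x := C) Q hQ hC {1, 2, 4} (fun m hm => by
    simp only [Finset.mem_insert, Finset.mem_singleton] at hm
    have hoe : orderOf E4 = 4 := by
      have h2F : Fact (Nat.Prime 2) := ⟨Nat.prime_two⟩
      have h2 := orderOf_eq_prime_pow (p := 2) (n := 1) (x := E4) (by rw [pow_one]; exact E4_ne)
        (by norm_num; exact E4_pow)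
      rw [h2]
      norm_num
    rcases hm with rfl | rfl | rfl
    · exact ⟨by norm_num, 1, by rw [one_mul, mul_one], orderOf_one⟩
    · refine ⟨by norm_num, E4 ^ 2, ((show Commute E4 C from E4_comm).pow_left 2).eq, ?_⟩
      rw [orderOf_pow, hoe]
      norm_num
    · exact ⟨by norm_num, E4, E4_comm, hoe⟩)
  exact h

/-- **The O'Nan group, `p = 7`.** -/
theorem krow : KRow.{u, 0} 7 ON := by
  have hfin := finite_ON
  have h7 : Fact (Nat.Prime 7) := ⟨by norm_num⟩
  refine KRow.of_two not_compl seven TT (fun x hx => el_TT hx) (fun x hx y hy σ h => ?_) (wf 3) (fun x hx => ?_)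
    (by rw [sum_wf])
  · have hcard : Nat.card ↥(centralizer ({x} : Set ON)) = Nat.card ↥(centralizer ({y} : Set ON)) := by
      obtain ⟨e⟩ := H80.K6.cent_map_equiv σ x
      rw [h] at e
      exact Nat.card_congr e.toEquiv
    rcases mem_TT.1 hx with rfl | rfl <;> rcases mem_TT.1 hy with rfl | rfl
    · rfl
    · rw [card_C, card_B] at hcard
      norm_num at hcard
    · rw [card_C, card_B] at hcard
      norm_num at hcard
    · rfl
  · rcases mem_TT.1 hx with rfl | rfl
    · unfold wf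
      rw [if_pos rfl]
      exact eps_C
    · unfold wf
      rw [if_neg BC_ne]
      exact epsGe_one _

/-- **The O'Nan group, `p = 7`.** -/
theorem row_on_seven {S : Type v} [Group S] (h : Cfsg.Spor.IsoON S) : KRow.{u, v} 7 S := by
  obtain ⟨e⟩ := h
  exact KRow.congr e.symm krow

end Cfsg.Agent.H404.K6.ON7
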