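import Mathlib
import Cfsg.Agent.H404.K6.CritT
import Cfsg.Agent.H740.Eight.Tits
import Cfsg.Agent.H631.TitsD.Data
import Cfsg.Agent.H235.TitsRow
import Cfsg.Agent.H561.Eight.Blk

/-!
S4876, helper404: the Tits group, `p = 5`.

`C(P)` is a 5-group, and there are seven degrees prime to 5: `1, 27, 351, 2048`, `78` or `39`, `1248` or `624`, and one
more in the principal 13-block (`1728`).
-/

set_option autoImplicit false
set_option linter.unusedSectionVars false

namespace Cfsg.Agent.H404.K6.Tits

open Cfsg Subgroup Cfsg.Agent.H61.K6 Cfsg.Agent.H664.Eight Cfsg.Agent.H740.Eight.Tits Cfsg.Agent.H631.TitsD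
  Cfsg.Agent.SmallSimple.DegreeData

universe u

/-- an orbit of a subgroup acting by conjugation -/
theorem card_dvd_of_orbit {X : Type u} [Group X] [Finite X] (N : Subgroup X) (y : X) (O : Set X)
    (h1 : ∀ n ∈ N, n * y * n⁻¹ ∈ O) (h2 : ∀ w ∈ O, ∃ n ∈ N, n * y * n⁻¹ = w) : Nat.card O ∣ Nat.card N := by
  let _ : MulAction N X := MulAction.compHom X ((MulAut.conj : X →* MulAut X).comp N.subtype)
  have hs : ∀ (n : N) (x : X), n • x = (n : X) * x * (n : X)⁻¹ := fun n x => rfl
  have h3 : MulAction.orbit N y = O := by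
    ext w
    constructor
    · rintro ⟨n, rfl⟩
      exact h1 n n.2
    · intro hw
      obtain ⟨n, hn, rfl⟩ := h2 w hw
      exact ⟨⟨n, hn⟩, rfl⟩
  rw [← h3, Nat.card_congr (MulAction.orbitEquivQuotientStabilizer N y)]
  exact Subgroup.card_quotient_dvd_card _

theorem card_sylow {X : Type u} [Group X] [Finite X] (h : Nat.card X = 17971200) [Fact (Nat.Prime 5)]
    (P : Sylow 5 X) : Nat.card P = 25 := by
  rw [Sylow.card_eq_multiplicity, h]
  have h1 : (17971200 : ℕ).factorization 5 = 2 := by
    rw [show (17971200 : ℕ) = 5 ^ 2 * 718848 by norm_num, Nat.factorization_mul (by norm_num) (by norm_num),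
      Finsupp.add_apply, Nat.factorization_pow, Finsupp.smul_apply, Nat.Prime.factorization_self (by norm_num),
      Nat.factorization_eq_zero_of_not_dvd (by norm_num)]
    norm_num
  rw [h1]
  norm_num

theorem cp {X : Type u} [Group X] [Finite X] (T : TD X) (F : H235.TitsIdx.Facts X) : CP 5 X := by
  have h5 : Fact (Nat.Prime 5) := ⟨by norm_num⟩
  have h2f : Fact (Nat.Prime 2) := ⟨by norm_num⟩
  have h3f : Fact (Nat.Prime 3) := ⟨by norm_num⟩
  obtain ⟨P⟩ : Nonempty (Sylow 5 X) := inferInstance
  have hP := card_sylow T.card P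
  have hcomm := IsPGroup.isMulCommutative_of_card_eq_prime_sq (p := 5) (G := P) (by rw [hP]; norm_num)
  have habel : ∀ a ∈ (P : Subgroup X), ∀ b ∈ (P : Subgroup X), a * b = b * a := fun a ha b hb =>
    congrArg Subtype.val (hcomm.is_comm.comm (⟨a, ha⟩ : P) ⟨b, hb⟩)
  have hPC : (P : Subgroup X) ≤ centralizer ((P : Subgroup X) : Set X) := fun x hx =>
    mem_centralizer_iff.2 fun y hy => habel y hy x hx
  -- elements of `P`
  have hord : ∀ w ∈ (P : Subgroup X), w ≠ 1 → orderOf w = 5 := by
    intro w hw hw1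
    have h1 : w ^ 25 = 1 := by
      have h2 : (⟨w, hw⟩ : P) ^ 25 = 1 := by
        rw [← hP]
        exact pow_card_eq_one'
      exact congrArg Subtype.val h2
    exact orderOf_eq_prime (F.exp w h1) hw1
  set C := centralizer ((P : Subgroup X) : Set X) with hC
  obtain ⟨y, hy⟩ := exists_prime_orderOf_dvd_card' (G := P) 5 (by rw [hP]; norm_num)
  have hyP : (y : X) ∈ (P : Subgroup X) := y.2
  have hyo : orderOf (y : X) = 5 := by rw [orderOf_coe, hy]
  have hCle : ∀ w ∈ (P : Subgroup X), C ≤ centralizer ({w} : Set X) := fun w hw =>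
    centralizer_le (by rintro _ rfl; exact hw)
  have hC50 : Nat.card C ∣ 50 := by
    rw [← T.c5 y hyo]
    exact card_dvd_of_le (hCle y hyP)
  have hC25 : 25 ∣ Nat.card C := by
    rw [← hP]
    exact card_dvd_of_le hPC
  have hcard : Nat.card C = 25 := by
    by_contra hne
    have hC' : Nat.card C = 50 := by
      obtain ⟨a, ha⟩ := hC25
      rw [ha] at hC50 hne ⊢
      have h1 : a ∣ 2 := Nat.dvd_of_mul_dvd_mul_left (by norm_num : 0 < 25) hC50
      rcases (Nat.dvd_prime Nat.prime_two).1 h1 with rfl | rfl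
      · exact absurd rfl hne
      · rfl
    -- an involution of `C`
    obtain ⟨t, ht⟩ := exists_prime_orderOf_dvd_card' (G := C) 2 (by rw [hC']; norm_num)
    have hto : orderOf (t : X) = 2 := by rw [orderOf_coe, ht]
    have hnotP : ∀ w : X, orderOf w = 2 → w ∉ (P : Subgroup X) := by
      intro w hw hwP
      have h1 := hord w hwP (by
        rintro rfl
        rw [orderOf_one] at hw
        omega)
      omega
    have hidx : ((P : Subgroup X).subgroupOf C).index = 2 := by
      have h1 : Nat.card ((P : Subgroup X).subgroupOf C) = 25 := by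
        rw [← hP]
        exact Nat.card_congr (Subgroup.subgroupOfEquivOfLe hPC).toEquiv
      have h2 := ((P : Subgroup X).subgroupOf C).card_mul_index
      rw [h1, hC'] at h2
      omega
    have huniq : ∀ w ∈ C, orderOf w = 2 → w = t := by
      intro w hw hwo
      have h1 : (⟨w, hw⟩ : C) * t ∈ (P : Subgroup X).subgroupOf C := by
        rw [Subgroup.mul_mem_iff_of_index_two hidx]
        constructor
        · intro h
          exact absurd (mem_subgroupOf.1 h) (hnotP w hwo)
        · intro h
          exact absurd (mem_subgroupOf.1 h) (hnotP t hto)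
      have h2 : w * (t : X) ∈ (P : Subgroup X) := mem_subgroupOf.1 h1
      have h3 : (t : X) * t = 1 := by
        have := pow_orderOf_eq_one (t : X)
        rwa [hto, pow_two] at this
      have h4 : w * w = 1 := by
        have := pow_orderOf_eq_one w
        rwa [hwo, pow_two] at this
      -- `u = w t` satisfies `u ^ 2 = 1`
      have h5' : (t : X) * (w * t) = w * t * t := (mem_centralizer_iff.1 t.2 _ h2).symm
      have h6 : (w * t) * (w * t) = 1 := by
        rw [mul_assoc, h5', mul_assoc w (t : X) t, h3, mul_one, h4]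
      by_contra hne'
      have h7 : w * (t : X) ≠ 1 := by
        intro h8
        apply hne'
        have : w = (t : X)⁻¹ := eq_inv_of_mul_eq_one_left h8
        rw [this]
        exact inv_eq_of_mul_eq_one_left h3
      have h8 := hord _ h2 h7
      have h9 : orderOf (w * (t : X)) ∣ 2 := orderOf_dvd_of_pow_eq_one (by rw [pow_two, h6])
      rw [h8] at h9
      omega
    -- the normalizer is transitive on the nontrivial elements of `P`
    have h24 : Nat.card {w : X | w ∈ (P : Subgroup X) ∧ w ≠ 1} ∣
        Nat.card (normalizer ((P : Subgroup X) : Set X)) := by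
      refine card_dvd_of_orbit _ (y : X) _ ?_ ?_
      · intro n hn
        refine ⟨(mem_normalizer_iff.1 hn y).1 hyP, ?_⟩
        intro h
        have : (y : X) = 1 := by
          have h1 : (y : X) = n⁻¹ * (n * y * n⁻¹) * n := by group
          rw [h1, h]
          group
        rw [this, orderOf_one] at hyo
        omega
      · rintro w ⟨hw, hw1⟩
        obtain ⟨g, hg⟩ := isConj_iff.1 (F.one y w hyo (hord w hw hw1))
        obtain ⟨n, hn, hnw⟩ := P.conj_eq_normalizer_conj_of_mem_centralizer (y : X) g⁻¹ (hPC hyP)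
          (by rw [inv_inv, hg]; exact hPC hw)
        refine ⟨n⁻¹, inv_mem hn, ?_⟩
        rw [inv_inv, ← hnw, inv_inv, hg]
    have h24' : Nat.card {w : X | w ∈ (P : Subgroup X) ∧ w ≠ 1} = 24 := by
      have h1 : Nat.card {w : P // w ≠ 1} = 24 := by
        classical
        have := Fintype.ofFinite P
        rw [Nat.card_eq_fintype_card, Fintype.card_subtype_compl, Fintype.card_subtype_eq,
          ← Nat.card_eq_fintype_card]
        have h0 : Nat.card (P : Subgroup X) - 1 = 24 := by rw [hP]
        exact h0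
      rw [← h1]
      refine Nat.card_congr
        { toFun := fun w => ⟨⟨w.1, w.2.1⟩, fun h => w.2.2 (congrArg Subtype.val h)⟩
          invFun := fun w => ⟨w.1, w.1.2, fun h => w.2 (Subtype.ext h)⟩
          left_inv := fun w => rfl
          right_inv := fun w => rfl }
    rw [h24'] at h24
    obtain ⟨s, hs⟩ := exists_prime_orderOf_dvd_card' (G := normalizer ((P : Subgroup X) : Set X)) 3
      ((by norm_num : 3 ∣ 24).trans h24)
    have hso : orderOf (s : X) = 3 := by rw [orderOf_coe, hs]
    have hst : (s : X) * t * (s : X)⁻¹ = t := by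
      apply huniq
      · rw [mem_centralizer_iff]
        intro w hw
        have h1 : (s : X)⁻¹ * w * s ∈ (P : Subgroup X) := (mem_normalizer_iff''.1 s.2 w).1 hw
        have h2 := mem_centralizer_iff.1 t.2 _ h1
        calc w * (s * t * (s : X)⁻¹) = s * ((s : X)⁻¹ * w * s * t) * (s : X)⁻¹ := by group
          _ = s * (t * ((s : X)⁻¹ * w * s)) * (s : X)⁻¹ := by rw [h2]
          _ = s * t * (s : X)⁻¹ * w := by group
      · rw [← hto]
        exact orderOf_injective (MulAut.conj (s : X)).toMonoidHom (MulAut.conj (s : X)).injective t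
    obtain ⟨z, d, I⟩ := T.inv
    have hconj : ∀ (g a b : X), a * b = b * a → (g * a * g⁻¹) * (g * b * g⁻¹) = (g * b * g⁻¹) * (g * a * g⁻¹) := by
      intro g a b h
      calc (g * a * g⁻¹) * (g * b * g⁻¹) = g * (a * b) * g⁻¹ := by group
        _ = g * (b * a) * g⁻¹ := by rw [h]
        _ = (g * b * g⁻¹) * (g * a * g⁻¹) := by group
    have hordc : ∀ (g a : X), orderOf (g * a * g⁻¹) = orderOf a := fun g a =>
      orderOf_injective (MulAut.conj g).toMonoidHom (MulAut.conj g).injective a
    rcases I.cases t hto with h | h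
    · obtain ⟨g, hg⟩ := isConj_iff.1 h
      refine I.z3 (g * s * g⁻¹) (by rw [hordc, hso]) ?_
      rw [← hg]
      refine hconj g t s ?_
      rw [mul_inv_eq_iff_eq_mul] at hst
      exact hst.symm
    · obtain ⟨g, hg⟩ := isConj_iff.1 h
      refine I.d5 (g * y * g⁻¹) (by rw [hordc, hyo]) ?_
      rw [← hg]
      exact hconj g t y (mem_centralizer_iff.1 t.2 y hyP).symm
  refine ⟨P, fun z hz => ?_⟩
  have h1 : orderOf z ∣ 5 ^ 2 := by
    have h2 := Subgroup.orderOf_dvd_natCard C hz
    rw [hcard] at h2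
    norm_num
    exact h2
  obtain ⟨k, -, hk⟩ := (Nat.dvd_prime_pow Nat.prime_five).1 h1
  exact ⟨k, hk⟩

/-- the numerical part: a further degree in the principal 13-block -/
theorem exists_deg {X : Type u} [Group X] [Finite X] [IsSimpleGroup X] (hcard : Nat.card X = 17971200)
    (h13 : ∀ y : X, orderOf y = 13 → Nat.card (centralizer ({y} : Set X)) = 13)
    (h27 : 27 ∈ charDegrees X) (h675 : 675 ∈ charDegrees X) (h2048 : 2048 ∈ charDegrees X) :
    ∃ w : ℤ, w.natAbs ∈ charDegrees X ∧ w ≡ 1 [ZMOD 13] ∧ ¬ 5 ∣ w.natAbs ∧ w ≠ 27 ∧ 3 ≤ w.natAbs := by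
  have : Fact (Nat.Prime 13) := ⟨by norm_num⟩
  obtain ⟨x, hx⟩ := exists_prime_orderOf_dvd_card' (G := X) 13 (by rw [hcard]; norm_num)
  have hR : ∃ R : Subgroup X, Nat.card R = 13 ∧ centralizer (R : Set X) = R := by
    have h1 : Nat.card (zpowers x) = 13 := by rw [Nat.card_zpowers, hx]
    have h2 : centralizer ((zpowers x : Subgroup X) : Set X) = centralizer ({x} : Set X) := by
      rw [zpowers_eq_closure, centralizer_closure]
    have h3 : zpowers x ≤ centralizer ({x} : Set X) := by
      rw [zpowers_le]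
      exact mem_centralizer_singleton_iff.2 rfl
    refine ⟨zpowers x, h1, ?_⟩
    rw [h2]
    exact (Subgroup.eq_of_le_of_card_ge h3 (by rw [h13 x hx, h1])).symm
  obtain ⟨M, P, hM, hP, hC, ⟨D⟩⟩ := H561.Eight.exists_blk (G := X) (p := 13) (by omega) hR
    (by rw [hcard]; norm_num) (e := 6) (t := 2) (by norm_num) (by rw [hcard])
  have hmem : ∀ z ∈ D.degs, z.natAbs ∈ charDegrees X := by
    intro z hz
    obtain ⟨χ, hχ, rfl⟩ := List.mem_map.1 hz
    exact ⟨χ, (D.natAbs_sd (List.mem_cons_of_mem _ hχ)).symm⟩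
  have h3 : ∀ z ∈ D.degs, 3 ≤ z.natAbs :=
    H424.BlockTools.degs_three_le (by rw [hcard]; norm_num) (by rw [hcard]; norm_num) D
  have hmod : ∀ z ∈ D.degs, z ≡ 1 [ZMOD 13] := fun z hz => (D.degs_spec hP z hz).1
  have hdvd : ∀ z ∈ D.degs, z.natAbs ∣ 17971200 := fun z hz => by
    rw [← hcard]
    exact (D.degs_spec hP z hz).2.1
  have m27 : (27 : ℤ) ∈ D.degs := H561.Eight.mem_degs hM D hP hC (by norm_num) (by simpa using h27) (by decide)
    (by decide) (by decide) (by decide) (by decide)
  have m675 : (-675 : ℤ) ∈ D.degs := H561.Eight.mem_degs hM D hP hC (by norm_num) (by simpa using h675) (by decide)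
    (by decide) (by decide) (by decide) (by decide)
  have hexc : 1 + D.degs.sum = -2048 := by
    have h4 := D.dexc_eq (by norm_num)
    have h5 := D.dexc_modEq hP (by norm_num)
    rw [← h4] at h5
    rcases H424.BlockTools2.degree_cases hM D hP hC (by norm_num) h2048 (by norm_num) with h | ⟨z, hz, hzd⟩ | h
    · omega
    · exfalso
      have h6 := hmod z hz
      rcases Int.natAbs_eq z with h7 | h7
      · rw [h7, hzd] at h6
        exact absurd h6 (by decide)
      · rw [h7, hzd] at h6
        exact absurd h6 (by decide)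
    · rcases Int.natAbs_eq (1 + D.degs.sum) with h7 | h7
      · rw [← h] at h7
        rw [h7] at h5
        exact absurd h5 (by decide)
      · rw [← h] at h7
        exact h7
  have hlen := D.length_degs
  by_contra hcon
  push Not at hcon
  have hall : ∀ z ∈ D.degs, (5 : ℤ) ∣ z ∨ z = 27 := by
    intro z hz
    by_cases h5 : 5 ∣ z.natAbs
    · exact Or.inl (Int.natCast_dvd.2 h5)
    · right
      by_contra hne
      exact absurd (h3 z hz) (not_le.2 (hcon z (hmem z hz) (hmod z hz) h5 hne))
  clear hcon hmem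
  generalize D.degs = L at *
  obtain ⟨L1, hL1⟩ : ∃ L1 : List ℤ, L.Perm (27 :: L1) := ⟨L.erase 27, List.perm_cons_erase m27⟩
  have m675' : (-675 : ℤ) ∈ L1 := by
    have := (hL1.mem_iff).1 m675
    simpa using this
  obtain ⟨L2, hL2⟩ : ∃ L2 : List ℤ, L1.Perm (-675 :: L2) := ⟨L1.erase (-675), List.perm_cons_erase m675'⟩
  have hp : L.Perm (27 :: -675 :: L2) := hL1.trans (hL2.cons 27)
  have hl2 : L2.length = 3 := by
    have h6 := hp.length_eq
    simp only [List.length_cons] at h6
    omega
  have hs2 : L2.sum = -1401 := by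
    have h6 := hp.sum_eq
    simp only [List.sum_cons] at h6
    omega
  have hsub : ∀ z ∈ L2, z ∈ L := fun z hz => (hp.mem_iff).2 (by simp [hz])
  match L2, hl2 with
  | [x, y, z], _ =>
    simp only [List.sum_cons, List.sum_nil, add_zero] at hs2
    have hx' := hall x (hsub x (by simp))
    have hy' := hall y (hsub y (by simp))
    have hz' := hall z (hsub z (by simp))
    have key : ∀ w ∈ L, w ≠ -1455 := by
      rintro w hw rfl
      have := hdvd _ hw
      revert this
      norm_num
    have kx := key x (hsub x (by simp))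
    have ky := key y (hsub y (by simp))
    have kz := key z (hsub z (by simp))
    omega

theorem row_aux {X : Type u} [Group X] [Finite X] [IsSimpleGroup X] (hcp : CP 5 X) (hcard : Nat.card X = 17971200)
    (h13 : ∀ y : X, orderOf y = 13 → Nat.card (centralizer ({y} : Set X)) = 13)
    {A : Type} [Group A] (T : Subgroup A)
    (e : Nonempty (X ≃* commutator T)) (h27 : 27 ∈ charDegrees X) (h2048 : 2048 ∈ charDegrees (commutator T))
    (hd : 351 ∈ charDegrees T ∧ 650 ∈ charDegrees T ∧ 675 ∈ charDegrees T ∧ 1248 ∈ charDegrees T ∧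
      78 ∈ charDegrees T)
    (hdown : ∀ d ∈ charDegrees T, ∃ c ∈ charDegrees (commutator T), c = d ∨ 2 * c = d) : KRow.{u, u} 5 X := by
  have : Fact (Nat.Prime 5) := ⟨by norm_num⟩
  have key : ∀ {d : ℕ}, d ∈ charDegrees T → ∃ c ∈ charDegrees X, c = d ∨ 2 * c = d := by
    intro d hd
    obtain ⟨c, hc, h1⟩ := hdown d hd
    exact ⟨c, mem_of_equiv T e hc, h1⟩
  have h2048' : 2048 ∈ charDegrees X := mem_of_equiv T e h2048
  obtain ⟨d1, d2, d3, d4, d5⟩ := hd
  obtain ⟨c1, m1, e1⟩ := key d1
  obtain ⟨c3, m3, e3⟩ := key d3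
  obtain ⟨c4, m4, e4⟩ := key d4
  obtain ⟨c5, m5, e5⟩ := key d5
  obtain rfl : c1 = 351 := by omega
  obtain rfl : c3 = 675 := by omega
  obtain ⟨w, hw, hwm, hw5, hw27, hw3⟩ := exists_deg hcard h13 h27 m3 h2048'
  have hwm' : w % 13 = 1 := hwm
  refine KRow.of_degs hcp [1, 27, 351, 2048, c4, c5, w.natAbs] ?_ ?_ (by simp)
  · intro d hd
    simp only [List.mem_cons, List.not_mem_nil, or_false] at hd
    rcases hd with rfl | rfl | rfl | rfl | rfl | rfl | rfl
    · exact ⟨one_mem, by norm_num⟩
    · exact ⟨h27, by norm_num⟩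
    · exact ⟨m1, by norm_num⟩
    · exact ⟨h2048', by norm_num⟩
    · exact ⟨m4, by omega⟩
    · exact ⟨m5, by omega⟩
    · exact ⟨hw, hw5⟩
  · simp only [List.nodup_cons, List.mem_cons, List.not_mem_nil, or_false, not_or, List.nodup_nil, and_true,
      not_false_eq_true]
    omega

/-- **The Tits group, `p = 5`.** -/
theorem row_tits {S : Type u} [Group S] (h : Lie.IsoTits S) : KRow.{u, u} 5 S := by
  have T := td_of h
  have : Finite S := Nat.finite_of_card_ne_zero (by rw [T.card]; norm_num)
  have hs : IsSimpleGroup S := Cfsg.Agent.H180.ElS.simple_tits h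
  exact row_aux (cp T (H235.TitsRow.facts h)) T.card T.c13 (Cfsg.Lie.twistedF4 (ZMod 2) 1) h (mem_27 h) mem_2048 degs
    fun _ hd => down hd

end Cfsg.Agent.H404.K6.Tits
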